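import Cfsg.Agent.Lib.Char.TwoDegrees

/-!
# Commutative groups acting on linear characters

Counting fixed points of a twisted coprime action, and the norm argument replacing cyclicity.
-/

set_option autoImplicit false
set_option linter.unusedSectionVars false

namespace Cfsg.Agent.Block.NDDTwo

open Cfsg.Agent.Char.TwoDeg
open scoped IsMulCommutative

universe u

variable {G : Type u} [Group G] [Finite G] {N : Subgroup G} [N.Normal]

/-- `cj g` as a homomorphism. -/
def cjHom (g : G) : (N →* ℂˣ) →* (N →* ℂˣ) where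
  toFun := cj g
  map_one' := MonoidHom.ext fun n => by simp [cj_apply]
  map_mul' := cj_mul g

theorem cjHom_apply (g : G) (μ : N →* ℂˣ) : cjHom g μ = cj g μ := rfl

theorem one_mul_lin (μ : N →* ℂˣ) : 1 * μ = μ := MonoidHom.ext fun _ => one_mul _

theorem lin_pow_card (μ : N →* ℂˣ) : μ ^ Nat.card N = 1 := MonoidHom.ext fun n => by
  rw [MonoidHom.pow_apply, ← map_pow, pow_card_eq_one', map_one, MonoidHom.one_apply]

/-- A commutative group of operators with maximal stabiliser is cyclic modulo it, in the weak form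
that is needed: no two independent elements of order `s`. -/
theorem no_two_independent {W : Subgroup G} (hcomm : ∀ u ∈ W, ∀ v ∈ W, u * v = v * u)
    {s : ℕ} (hs : s.Prime) (hN : s.Coprime (Nat.card N)) (μ : N →* ℂˣ) (hμ : ¬ W ≤ stabL μ)
    (hmax : ∀ ν : N →* ℂˣ, W ⊓ stabL μ ≤ stabL ν → ¬ W ≤ stabL ν → W ⊓ stabL ν ≤ stabL μ)
    {x r : G} (hx : x ∈ W) (hr : r ∈ W) (hxs : x ^ s ∈ stabL μ) (hrs : r ^ s ∈ stabL μ)
    (hr' : r ∉ stabL μ) (hxr : ∀ j : ℕ, x * r ^ j ∉ stabL μ) : False := by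
  classical
  -- the norms of elements outside the stabiliser are fixed by `W`
  have hnorm : ∀ g ∈ W, g ^ s ∈ stabL μ → g ∉ stabL μ → ∀ w ∈ W,
      cj w (∏ i ∈ Finset.range s, cj (g ^ i) μ) = ∏ i ∈ Finset.range s, cj (g ^ i) μ := by
    intro g hg hgs hgn
    set P := ∏ i ∈ Finset.range s, cj (g ^ i) μ with hP
    have hsub : W ⊓ stabL μ ≤ stabL P := by
      intro w hw
      rw [mem_stabL, hP, ← cjHom_apply, map_prod]
      refine Finset.prod_congr rfl fun i _ => ?_
      rw [cjHom_apply, cj_cj, hcomm _ (pow_mem hg i) _ hw.1, ← cj_cj, mem_stabL.1 hw.2]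
    have hgP : g ∈ stabL P := by
      rw [mem_stabL, hP, ← cjHom_apply, map_prod]
      simp only [cjHom_apply, cj_cj, ← pow_succ]
      have h1 := Finset.prod_range_succ (fun i => cj (g ^ i) μ) s
      rw [Finset.prod_range_succ' (fun i => cj (g ^ i) μ) s, pow_zero, cj_one,
        mem_stabL.1 hgs] at h1
      exact mul_right_cancel h1
    by_contra hno
    push Not at hno
    obtain ⟨w, hw, hwP⟩ := hno
    exact hgn (hmax P hsub (fun h => hwP (mem_stabL.1 (h hw))) ⟨hg, hgP⟩)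
  -- the double product
  have key : ∀ w ∈ W, cj w (μ ^ s) = μ ^ s := by
    intro w hw
    have h1 : ∀ j ∈ Finset.range s,
        cj w (∏ i ∈ Finset.range s, cj ((x * r ^ j) ^ i) μ) =
          ∏ i ∈ Finset.range s, cj ((x * r ^ j) ^ i) μ := fun j _ => by
      refine hnorm _ (W.mul_mem hx (pow_mem hr j)) ?_ (hxr j) w hw
      have hc : Commute x (r ^ j) := hcomm x hx _ (pow_mem hr j)
      rw [hc.mul_pow, ← pow_mul, mul_comm j, pow_mul]
      exact (stabL μ).mul_mem hxs (pow_mem hrs j)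
    set Φ := ∏ j ∈ Finset.range s, ∏ i ∈ Finset.range s, cj ((x * r ^ j) ^ i) μ with hΦ
    have hΦw : cj w Φ = Φ := by
      rw [hΦ, ← cjHom_apply, map_prod]
      exact Finset.prod_congr rfl fun j hj => by rw [cjHom_apply]; exact h1 j hj
    set Rest := ∏ i ∈ Finset.range s, if i = 0 then (1 : N →* ℂˣ) else
      cj (x ^ i) (∏ j ∈ Finset.range s, cj ((r ^ i) ^ j) μ) with hRest
    have hRw : cj w Rest = Rest := by
      rw [hRest, ← cjHom_apply, map_prod]
      refine Finset.prod_congr rfl fun i hi => ?_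
      by_cases h0 : i = 0
      · simp [h0]
      rw [if_neg h0, cjHom_apply, cj_cj, hcomm _ (pow_mem hx i) _ hw, ← cj_cj]
      congr 1
      refine hnorm _ (pow_mem hr i) ?_ ?_ w hw
      · rw [← pow_mul, mul_comm, pow_mul]
        exact pow_mem hrs i
      · intro h
        have hi' : i.Coprime s := (Nat.Coprime.symm
          (hs.coprime_iff_not_dvd.2 fun hd => h0 (Nat.eq_zero_of_dvd_of_lt hd (Finset.mem_range.1 hi))))
        obtain ⟨k, hk⟩ := Nat.exists_mul_mod_eq_one_of_coprime hi' hs.one_lt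
        refine hr' ?_
        have e : r = (r ^ i) ^ k * ((r ^ s) ^ (i * k / s))⁻¹ := by
          rw [eq_mul_inv_iff_mul_eq, ← pow_mul, ← pow_mul, ← pow_succ']
          congr 1
          have := Nat.div_add_mod (i * k) s
          rw [hk.2] at this
          omega
        rw [e]
        exact (stabL μ).mul_mem (pow_mem h k) ((stabL μ).inv_mem (pow_mem hrs _))
    have hsplit : Φ = μ ^ s * Rest := by
      rw [hΦ, Finset.prod_comm, hRest]
      have h0 : μ ^ s = ∏ i ∈ Finset.range s, if i = 0 then μ ^ s else 1 := by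
        rw [Finset.prod_ite_eq' (Finset.range s) 0 fun _ => μ ^ s]
        simp [hs.pos]
      rw [h0, ← Finset.prod_mul_distrib]
      refine Finset.prod_congr rfl fun i _ => ?_
      by_cases hi : i = 0
      · subst hi
        simp [cj_one]
      rw [if_neg hi, if_neg hi]
      refine Eq.trans ?_ (one_mul_lin _).symm
      rw [← cjHom_apply (x ^ i), map_prod]
      refine Finset.prod_congr rfl fun j _ => ?_
      have hc : Commute x (r ^ j) := hcomm x hx _ (pow_mem hr j)
      rw [cjHom_apply, cj_cj, hc.mul_pow, ← pow_mul, ← pow_mul, mul_comm j,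
        hcomm _ (pow_mem hx i) _ (pow_mem hr _)]
    rw [hsplit, cj_mul, hRw] at hΦw
    exact mul_right_cancel hΦw
  refine hμ fun w hw => mem_stabL.2 ?_
  obtain ⟨e, he⟩ := Nat.exists_mul_mod_eq_one_of_coprime hN
    (show 1 < Nat.card N from (Finite.one_lt_card_iff_nontrivial).2 (by
      by_contra hnt
      rw [not_nontrivial_iff_subsingleton] at hnt
      exact hμ fun v _ => mem_stabL.2 (MonoidHom.ext fun n => by
        rw [Subsingleton.elim n 1, map_one, map_one])))
  refine MonoidHom.ext fun n => ?_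
  have h1 := DFunLike.congr_fun (key w hw) n
  rw [cj_apply, MonoidHom.pow_apply, MonoidHom.pow_apply] at h1
  have h2 : ∀ m : N, μ m = (μ m ^ s) ^ e := fun m => by
    have h3 := DFunLike.congr_fun (lin_pow_card μ) m
    rw [MonoidHom.pow_apply, MonoidHom.one_apply] at h3
    rw [← pow_mul, pow_eq_pow_mod (s * e) h3, he.2, pow_one]
  rw [cj_apply, h2, h1, ← h2]

/-- With no strictly larger proper stabilisers in an invariant set of nontrivial characters,
all stabilisers agree. -/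
theorem stab_const {T : Subgroup G} (hcomm : ∀ u ∈ T, ∀ v ∈ T, u * v = v * u)
    (hfree : ∀ μ : N →* ℂˣ, μ ≠ 1 → ¬ T ≤ stabL μ)
    (hanti : ∀ μ ν : N →* ℂˣ, μ ≠ 1 → ν ≠ 1 → T ⊓ stabL μ ≤ stabL ν → T ⊓ stabL ν ≤ stabL μ)
    {μ ν : N →* ℂˣ} (hμ : μ ≠ 1) (hν : ν ≠ 1) : T ⊓ stabL μ ≤ stabL ν := by
  by_contra hne
  by_cases h1 : μ * ν = 1
  · refine hne fun t ht => ?_
    have e : ν = μ⁻¹ := MonoidHom.ext fun n => by
      rw [MonoidHom.inv_apply]
      exact eq_inv_of_mul_eq_one_right (DFunLike.congr_fun h1 n)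
    rw [e, mem_stabL, cj_inv, mem_stabL.1 ht.2]
  -- a common fixed character of both stabilisers is trivial
  have hboth : ∀ w : N →* ℂˣ, T ⊓ stabL μ ≤ stabL w → T ⊓ stabL ν ≤ stabL w → w = 1 := by
    intro w h2 h3
    by_contra hw
    exact hne fun t ht => hanti ν w hν hw h3 ⟨ht.1, h2 ht⟩
  have hsub : T ⊓ stabL (μ * ν) ≤ stabL μ ⊓ stabL ν := by
    intro t ht
    have h2 : cj t μ * μ⁻¹ = ν * (cj t ν)⁻¹ := by
      refine div_swap (A := N →* ℂˣ) ?_
      rw [← cj_mul, mem_stabL.1 ht.2]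
    have hw : cj t μ * μ⁻¹ = 1 := by
      refine hboth _ (fun u hu => ?_) (fun u hu => ?_)
      · rw [mem_stabL, cj_mul, cj_inv, cj_cj, hcomm _ ht.1 _ hu.1, ← cj_cj, mem_stabL.1 hu.2]
      · rw [h2, mem_stabL, cj_mul, cj_inv, cj_cj, hcomm _ ht.1 _ hu.1, ← cj_cj, mem_stabL.1 hu.2]
    have hν' : ν * (cj t ν)⁻¹ = 1 := h2 ▸ hw
    exact ⟨mem_stabL.2 (mul_inv_eq_one.1 hw), mem_stabL.2 (mul_inv_eq_one.1 hν').symm⟩
  exact hne fun t ht =>
    (hsub ⟨ht.1, hanti (μ * ν) μ h1 hμ (fun u hu => (hsub hu).1) ht⟩).2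

section count

variable {T : Subgroup G} {a : G}

/-- `t ↦ t⁻¹ t ^ a` on a commutative subgroup normalised by `a`. -/
def delta (hcomm : ∀ u ∈ T, ∀ v ∈ T, u * v = v * u) (ha : ∀ u ∈ T, a⁻¹ * u * a ∈ T) : T →* T where
  toFun u := ⟨(u : G)⁻¹ * (a⁻¹ * u * a), T.mul_mem (T.inv_mem u.2) (ha _ u.2)⟩
  map_one' := Subtype.ext (by simp)
  map_mul' u v := Subtype.ext (by
    simp only [Subgroup.coe_mul]
    have h1 := hcomm _ (T.inv_mem u.2) _ (T.inv_mem v.2)
    have h2 := hcomm _ (T.inv_mem v.2) _ (ha _ u.2)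
    calc ((u : G) * v)⁻¹ * (a⁻¹ * (u * v) * a)
        = (v : G)⁻¹ * (u : G)⁻¹ * (a⁻¹ * u * a) * (a⁻¹ * v * a) := by group
      _ = (u : G)⁻¹ * ((v : G)⁻¹ * (a⁻¹ * u * a)) * (a⁻¹ * v * a) := by rw [← h1]; group
      _ = _ := by rw [h2]; group)

variable (hcomm : ∀ u ∈ T, ∀ v ∈ T, u * v = v * u) (ha : ∀ u ∈ T, a⁻¹ * u * a ∈ T)

theorem delta_apply (u : T) : (delta hcomm ha u : G) = (u : G)⁻¹ * (a⁻¹ * u * a) := rfl

theorem delta_eq_one_iff (u : T) : delta hcomm ha u = 1 ↔ a * u = u * a := by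
  rw [Subtype.ext_iff, delta_apply, Subgroup.coe_one, inv_mul_eq_one, mul_assoc,
    eq_inv_mul_iff_mul_eq]

/-- An element of the image commuting with `a` is trivial once `a` has order coprime to it. -/
theorem delta_range_fixed {l i : ℕ} (han : a ^ l ^ i = 1)
    {y : T} (hy : y ∈ (delta hcomm ha).range) (hya : a * y = y * a)
    (hly : ∀ z ∈ (delta hcomm ha).range, (orderOf z).Coprime l) : y = 1 := by
  obtain ⟨u, rfl⟩ := hy
  set y := delta hcomm ha u with hy
  have hstep : a⁻¹ * (u : G) * a = u * y := by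
    rw [hy, delta_apply, mul_inv_cancel_left]
  have hit : ∀ k : ℕ, (a ^ k)⁻¹ * (u : G) * a ^ k = u * (y : G) ^ k := by
    intro k
    induction k with
    | zero => simp
    | succ k ih =>
      calc (a ^ (k + 1))⁻¹ * (u : G) * a ^ (k + 1) = a⁻¹ * ((a ^ k)⁻¹ * u * a ^ k) * a := by
            rw [pow_succ]; group
        _ = a⁻¹ * u * a * (a⁻¹ * (y : G) ^ k * a) := by rw [ih]; group
        _ = u * y * (y : G) ^ k := by
            rw [hstep]
            congr 1
            rw [mul_assoc, ← ((Commute.pow_right hya k).eq), ← mul_assoc, inv_mul_cancel, one_mul]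
        _ = _ := by rw [pow_succ', mul_assoc]
  have h := hit (l ^ i)
  rw [han, inv_one, one_mul, mul_one, left_eq_mul] at h
  refine orderOf_eq_one_iff.1 (Nat.eq_one_of_dvd_coprimes
    ((hly y ⟨u, rfl⟩).pow_right i) dvd_rfl ?_)
  exact orderOf_dvd_of_pow_eq_one (Subtype.ext (by simpa using h))

set_option maxHeartbeats 1600000 in
/-- Orbit counting: every orbit is `a`-stable with stabilisers centralised by `a`, so the points
are `|[T, a]|` times the fixed points. -/
theorem card_eq_range_mul_fixed {l i : ℕ} (hl : l.Prime) (han : a ^ l ^ i = 1) (P : Set (N →* ℂˣ))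
    (hPT : ∀ μ ∈ P, ∀ t ∈ T, cj t μ ∈ P) {μ₀ : N →* ℂˣ} (hμ₀ : μ₀ ∈ P)
    (horb : ∀ μ ∈ P, ∃ t ∈ T, cj a μ = cj t μ)
    (hstab : ∀ μ ∈ P, ∀ t ∈ T, cj t μ = μ → a * t = t * a)
    (hidx : ∀ μ ∈ P, ((stabL μ).relIndex T).Coprime l) :
    Nat.card P = Nat.card (delta hcomm ha).range * Nat.card {μ // μ ∈ P ∧ cj a μ = μ} := by
  classical
  haveI : IsMulCommutative T := ⟨⟨fun u v => Subtype.ext (hcomm _ u.2 _ v.2)⟩⟩
  set D := delta hcomm ha
  have hnorm : ∀ K : Subgroup T, K.Normal := fun K => inferInstance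
  have hly : ∀ z ∈ D.range, (orderOf z).Coprime l := by
    rintro _ ⟨u, rfl⟩
    refine Nat.Coprime.symm (hl.coprime_iff_not_dvd.2 fun hd => ?_)
    set m := ordCompl[l] (orderOf u)
    have hm : ¬ l ∣ m := Nat.not_dvd_ordCompl hl (orderOf_pos u).ne'
    have hfix : cj ((u ^ m : T) : G) μ₀ = μ₀ := by
      haveI := hnorm ((stabL μ₀).subgroupOf T)
      obtain ⟨e, he⟩ : ∃ e, orderOf (u ^ m) = l ^ e := by
        refine (Nat.dvd_prime_pow hl).1 (orderOf_dvd_of_pow_eq_one (x := u ^ m)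
          (n := l ^ (orderOf u).factorization l) ?_) |>.imp fun e h => h.2
        rw [← pow_mul, mul_comm, Nat.ordProj_mul_ordCompl_eq_self, pow_orderOf_eq_one]
      have hidx' : ((stabL μ₀).subgroupOf T).index.Coprime l := hidx μ₀ hμ₀
      obtain ⟨k, hk⟩ := exists_pow_eq_self_of_coprime (x := u ^ m)
        (n := ((stabL μ₀).subgroupOf T).index) (by rw [he]; exact hidx'.pow_right e)
      have := pow_mem (Subgroup.pow_index_mem ((stabL μ₀).subgroupOf T) (u ^ m)) k
      rw [hk, Subgroup.mem_subgroupOf] at this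
      exact this
    have h1 : D (u ^ m) = 1 := (delta_eq_one_iff hcomm ha _).2 (hstab μ₀ hμ₀ _ (u ^ m).2 hfix)
    rw [map_pow] at h1
    exact hm (hd.trans (orderOf_dvd_of_pow_eq_one h1))
  have hinj : ∀ y ∈ D.range, D y = 1 → y = 1 := fun y hy h =>
    delta_range_fixed hcomm ha han hy ((delta_eq_one_iff hcomm ha y).1 h) hly
  have hact : ∀ (t : T) (μ : N →* ℂˣ),
      cj a (cj (t : G) μ) = cj (a⁻¹ * t * a) (cj a μ) := fun t μ => by
    rw [cj_cj, cj_cj]; congr 1; group
  let f : D.range × {μ // μ ∈ P ∧ cj a μ = μ} → P := fun q =>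
    ⟨cj ((q.1 : T) : G) q.2.1, hPT _ q.2.2.1 _ (q.1 : T).2⟩
  have hf : Function.Bijective f := by
    constructor
    · rintro ⟨⟨y, hy⟩, μ, hμP, hμ⟩ ⟨⟨y', hy'⟩, μ', hμP', hμ'⟩ h
      have h0 : cj (y : G) μ = cj (y' : G) μ' := congrArg Subtype.val h
      have hv : cj ((y * y'⁻¹ : T) : G) μ = μ' := by
        rw [Subgroup.coe_mul, ← cj_cj, h0, cj_cj, Subgroup.coe_inv, mul_inv_cancel, cj_one]
      set v := y * y'⁻¹ with hv'
      have hvR : v ∈ D.range := D.range.mul_mem hy (D.range.inv_mem hy')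
      have hfix : cj ((D v : T) : G) μ = μ := by
        have h1 : cj (a⁻¹ * v * a) μ = cj (v : G) μ := by
          have := hact v μ
          rwa [hv, hμ', hμ, ← hv, eq_comm] at this
        rw [delta_apply, hcomm _ (T.inv_mem v.2) _ (ha _ v.2), ← cj_cj, h1, cj_cj, mul_inv_cancel,
          cj_one]
      have hD : D v = 1 := delta_range_fixed hcomm ha han ⟨v, rfl⟩
        (hstab μ hμP _ (D v).2 hfix) hly
      have hv1 : v = 1 := hinj v hvR hD
      obtain rfl : y = y' := mul_inv_eq_one.1 hv1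
      rw [hv1, Subgroup.coe_one, cj_one] at hv
      subst hv
      rfl
    · rintro ⟨μ, hμ⟩
      obtain ⟨t, ht, hat⟩ := horb μ hμ
      set K := (stabL μ).subgroupOf T with hK
      have hiter : ∀ k : ℕ, ∃ u : T, u⁻¹ * (⟨t, ht⟩ : T) ^ k ∈ D.range ∧
          cj (a ^ k) μ = cj (u : G) μ := by
        intro k
        induction k with
        | zero => exact ⟨1, by simp, by simp⟩
        | succ k ih =>
          obtain ⟨u, hu, hu'⟩ := ih
          refine ⟨⟨t, ht⟩ * (u * D u), ?_, ?_⟩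
          · have e : ((⟨t, ht⟩ : T) * (u * D u))⁻¹ * (⟨t, ht⟩ : T) ^ (k + 1) =
                (D u)⁻¹ * (u⁻¹ * (⟨t, ht⟩ : T) ^ k) := by
              rw [pow_succ', mul_inv_rev, mul_inv_rev, mul_assoc, mul_assoc, inv_mul_cancel_left]
            rw [e]
            exact D.range.mul_mem (D.range.inv_mem ⟨u, rfl⟩) hu
          · rw [pow_succ, ← cj_cj, hu', hact, hat, cj_cj]
            congr 1
            simp [D, delta_apply]
      obtain ⟨u, hu, hu'⟩ := hiter (l ^ i)
      rw [han, cj_one] at hu'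
      haveI := hnorm (D.range ⊔ K)
      have htn : (⟨t, ht⟩ : T) ^ l ^ i ∈ D.range ⊔ K := by
        rw [show (⟨t, ht⟩ : T) ^ l ^ i = u * (u⁻¹ * (⟨t, ht⟩ : T) ^ l ^ i) by group]
        exact (D.range ⊔ K).mul_mem (Subgroup.mem_sup_right hu'.symm) (Subgroup.mem_sup_left hu)
      have hcop : ((D.range ⊔ K).index).Coprime (l ^ i) :=
        ((hidx μ hμ).coprime_dvd_left (Subgroup.index_dvd_of_le le_sup_right)).pow_right i
      have htmem : (⟨t, ht⟩ : T) ∈ D.range ⊔ K := by
        have h1 := Subgroup.pow_index_mem (D.range ⊔ K) (⟨t, ht⟩ : T)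
        have h2 : ((⟨t, ht⟩ : T)) ^ Nat.gcd (D.range ⊔ K).index (l ^ i) ∈ D.range ⊔ K := by
          rw [← zpow_natCast, Nat.gcd_eq_gcd_ab, zpow_add, zpow_mul, zpow_mul, zpow_natCast,
            zpow_natCast]
          exact (D.range ⊔ K).mul_mem (zpow_mem h1 _) (zpow_mem htn _)
        rwa [hcop.gcd_eq_one, pow_one] at h2
      obtain ⟨_, ⟨r₀, rfl⟩, k, hk, e⟩ := Subgroup.mem_sup.1 htmem
      -- `D` is onto its image already on its image
      let g : D.range → D.range := fun z => ⟨D z, ⟨z, rfl⟩⟩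
      have hg : Function.Injective g := fun z z' h => by
        have h1 : D (z : T) = D z' := congrArg Subtype.val h
        exact Subtype.ext (mul_inv_eq_one.1 (hinj _ (D.range.mul_mem z.2 (D.range.inv_mem z'.2))
          (by rw [map_mul, map_inv, h1, mul_inv_cancel])))
      obtain ⟨r, hr⟩ := Finite.injective_iff_surjective.1 hg ⟨D r₀⁻¹, ⟨_, rfl⟩⟩
      have hr' : D (r : T) = D r₀⁻¹ := congrArg Subtype.val hr
      set y : N →* ℂˣ := cj ((r : T) : G) μ with hy
      have hya : cj a y = y := by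
        have hk' : cj (k : G) μ = μ := hk
        rw [hy, hact, hat, cj_cj]
        have e2 : t * (a⁻¹ * ((r : T) : G) * a) = (k : G) * ((r : T) : G) := by
          have e3 : (⟨t, ht⟩ : T) * ((r : T) * D (r : T)) = k * (r : T) := by
            rw [← e, hr', map_inv]
            calc D r₀ * k * ((r : T) * (D r₀)⁻¹) = k * (r : T) * (D r₀ * (D r₀)⁻¹) := by
                  simp only [mul_assoc, mul_comm, mul_left_comm]
              _ = _ := by rw [mul_inv_cancel, mul_one]
          have e4 := congrArg Subtype.val e3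
          simpa [D, delta_apply] using e4
        rw [e2, ← cj_cj, hk']
      refine ⟨⟨⟨(r : T)⁻¹, D.range.inv_mem r.2⟩, y, hPT μ hμ _ (r : T).2, hya⟩, Subtype.ext ?_⟩
      show cj (((r : T)⁻¹ : T) : G) y = μ
      rw [hy, cj_cj, Subgroup.coe_inv, mul_inv_cancel, cj_one]
  rw [← Nat.card_congr (Equiv.ofBijective f hf), Nat.card_prod]

end count

/-- Two such counts are incompatible. -/
theorem no_count {p ρ n i k j : ℕ} (hp : p.Prime) (hρ : 1 < ρ) (h1 : p ^ n - 1 = ρ * (p ^ i - 1))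
    (h2 : p ^ k - 1 = ρ * (p ^ j - 1)) (hk : 1 ≤ k) (hkn : k < n) (hjk : j ≤ k) : False := by
  have hpos : ∀ m, 1 ≤ p ^ m := fun m => Nat.one_le_pow _ _ hp.pos
  have hji : j < i := by
    by_contra h
    have h3 : p ^ n - 1 ≤ p ^ k - 1 := h1 ▸ h2 ▸ Nat.mul_le_mul_left ρ
      (Nat.sub_le_sub_right (Nat.pow_le_pow_right hp.pos (not_lt.1 h)) 1)
    have h4 := Nat.pow_lt_pow_right hp.one_lt hkn
    have := hpos k
    omega
  rcases eq_or_lt_of_le hjk with rfl | hjk'
  · have h4 := Nat.le_self_pow (show j ≠ 0 by omega) p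
    have h5 := hp.two_le
    rcases Nat.eq_zero_or_pos (p ^ j - 1) with h6 | h6
    · omega
    have : p ^ j - 1 < ρ * (p ^ j - 1) := lt_mul_of_one_lt_left h6 hρ
    omega
  -- modulo `p ^ (j + 1)`
  have hz : ∀ m, j < m → ((p : ZMod (p ^ (j + 1))) ^ m) = 0 := fun m hm => by
    rw [← Nat.cast_pow, ZMod.natCast_eq_zero_iff]
    exact pow_dvd_pow p hm
  have c1 := congrArg (Nat.cast : ℕ → ZMod (p ^ (j + 1))) h1
  have c2 := congrArg (Nat.cast : ℕ → ZMod (p ^ (j + 1))) h2
  rw [Nat.cast_sub (hpos n), Nat.cast_mul, Nat.cast_sub (hpos i), Nat.cast_pow, Nat.cast_pow,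
    Nat.cast_one, hz n (by omega), hz i hji] at c1
  rw [Nat.cast_sub (hpos k), Nat.cast_mul, Nat.cast_sub (hpos j), Nat.cast_pow, Nat.cast_pow,
    Nat.cast_one, hz k hjk'] at c2
  have h3 : ((p : ZMod (p ^ (j + 1))) ^ j) = 0 := by linear_combination c1 - c2 - (p : ZMod (p ^ (j + 1))) ^ j * c1
  rw [← Nat.cast_pow, ZMod.natCast_eq_zero_iff, Nat.pow_dvd_pow_iff_le_right hp.one_lt] at h3
  omega

end Cfsg.Agent.Block.NDDTwo
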