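import Cfsg.Agent.Lib.Block.NDDTwo.Setting
import Cfsg.Agent.Lib.Char.OneSeen.Values
import Cfsg.Agent.S0033

/-!
# An element moving every nonlinear character
-/

set_option autoImplicit false
set_option linter.style.haveILetI false
set_option linter.unusedSectionVars false

open Cfsg
open scoped ComplexConjugate commutatorElement

namespace Cfsg.Agent.Block.NDDTwo

open Cfsg.Agent Cfsg.Agent.Char

universe u

/-- The sum of an invariant function over a set permuted freely by a map of prime order is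
divisible by that prime. -/
theorem isIntegral_sum_div_prime {ι : Type*} [DecidableEq ι] {s : ℕ} (hs : s.Prime) (f : ι → ι)
    (F : ι → ℂ) (hF : ∀ i, IsIntegral ℤ (F i)) : ∀ S : Finset ι, (∀ i ∈ S, f i ∈ S) →
    (∀ i ∈ S, f^[s] i = i) → (∀ i ∈ S, f i ≠ i) → (∀ i ∈ S, F (f i) = F i) →
    ∃ w : ℂ, IsIntegral ℤ w ∧ ∑ i ∈ S, F i = s * w := by
  intro S
  induction S using Finset.strongInduction with
  | H S ih =>
    intro hmap hper hfree hinv
    rcases S.eq_empty_or_nonempty with rfl | ⟨i, hi⟩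
    · exact ⟨0, isIntegral_zero, by simp⟩
    haveI := Fact.mk hs
    set O := (Finset.range s).image fun k => f^[k] i with hO
    have hit : ∀ k, f^[k] i ∈ S ∧ F (f^[k] i) = F i := by
      intro k
      induction k with
      | zero => exact ⟨hi, rfl⟩
      | succ k ihk =>
        rw [Function.iterate_succ_apply']
        exact ⟨hmap _ ihk.1, (hinv _ ihk.1).trans ihk.2⟩
    have hsub : O ⊆ S := fun x hx => by
      obtain ⟨k, -, rfl⟩ := Finset.mem_image.1 hx
      exact (hit k).1
    have hcard : O.card = s := by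
      rw [hO, Finset.card_image_of_injOn, Finset.card_range]
      have hp : Function.minimalPeriod f i = s :=
        Function.minimalPeriod_eq_prime (hper i hi) (fun h => hfree i hi h)
      intro a ha b hb hab
      exact Function.iterate_injOn_Iio_minimalPeriod
        (by rw [hp]; exact Finset.mem_range.1 ha) (by rw [hp]; exact Finset.mem_range.1 hb) hab
    have hclosed : ∀ x ∈ S \ O, f x ∈ S \ O := by
      intro x hx
      rw [Finset.mem_sdiff] at hx ⊢
      refine ⟨hmap x hx.1, fun hfx => hx.2 ?_⟩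
      obtain ⟨k, -, hk⟩ := Finset.mem_image.1 hfx
      refine Finset.mem_image.2 ⟨(k + (s - 1)) % s, Finset.mem_range.2 (Nat.mod_lt _ hs.pos), ?_⟩
      have h1 : f^[(k + (s - 1)) % s] i = f^[k + (s - 1)] i := by
        conv_rhs => rw [← Nat.mod_add_div (k + (s - 1)) s, Function.iterate_add_apply]
        congr 1
        rw [Function.iterate_mul]
        exact (Function.iterate_fixed (hper i hi) _).symm
      rw [h1, add_comm, Function.iterate_add_apply, hk, ← Function.iterate_succ_apply,
        Nat.succ_eq_add_one, Nat.sub_add_cancel hs.one_le, hper x hx.1]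
    have hlt : S \ O ⊂ S := Finset.sdiff_ssubset hsub (Finset.card_pos.1 (by rw [hcard]; exact hs.pos))
    obtain ⟨w, hw, hwsum⟩ := ih (S \ O) hlt hclosed
      (fun x hx => hper x (Finset.mem_sdiff.1 hx).1) (fun x hx => hfree x (Finset.mem_sdiff.1 hx).1)
      (fun x hx => hinv x (Finset.mem_sdiff.1 hx).1)
    refine ⟨w + F i, hw.add (hF i), ?_⟩
    rw [← Finset.sum_sdiff hsub, hwsum, Finset.sum_congr rfl (g := fun _ => F i) fun x hx => by
      obtain ⟨k, -, rfl⟩ := Finset.mem_image.1 hx
      exact (hit k).2]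
    rw [Finset.sum_const, hcard, nsmul_eq_mul]
    ring

variable {G : Type u} [Group G] [Fintype G] {M : Subgroup G} [hM : M.Normal] [Fintype M]
  {x : G} {s : ℕ}

theorem isIntegral_irr (χ : IrrCharacter M) (g : M) : IsIntegral ℤ ((χ : M → ℂ) g) := by
  obtain ⟨n, ρ, hρ, hn⟩ := χ.2
  rw [← hn]
  exact isIntegral_character ρ g

/-- An element of order `s` moving every nonlinear character fixes only the identity of `M'`. -/
theorem fpf_on_commutator (hs : s.Prime) (hxs : x ^ s = 1) (hcop : (Nat.card M).Coprime s)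
    (hmove : ∀ θ : IrrCharacter M, charDegree (θ : M → ℂ) ≠ 1 → x ∉ inertia M (θ : M → ℂ))
    {c : M} (hc : c ∈ commutator M) (hxc : x * c = c * x) : c = 1 := by
  classical
  by_contra hc1
  let f : IrrCharacter M → IrrCharacter M := fun χ =>
    ⟨conjN M x (χ : M → ℂ), IsIrr.conjN M χ.2 x⟩
  let Φ : IrrCharacter M → ℂ := fun χ => (χ : M → ℂ) c * conj ((χ : M → ℂ) 1)
  have hsum : ∑ χ, Φ χ = 0 := by
    simp only [Φ]
    rw [sum_irr_mul_conj, if_neg]
    exact fun h => hc1 (isConj_one_left.mp h)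
  set L := Finset.univ.filter fun χ : IrrCharacter M => charDegree (χ : M → ℂ) = 1 with hL
  have hlin : ∀ χ ∈ L, Φ χ = 1 := by
    intro χ hχ
    obtain ⟨μ, hμ⟩ := linearHom_of_isCharacter (irr_isChar χ) (by
      rw [charDeg_spec' χ, (Finset.mem_filter.1 hχ).2, Nat.cast_one])
    simp [Φ, hμ, MonoidHom.mem_ker.1 (Abelianization.commutator_subset_ker μ hc)]
  have hLcard : L.card = (commutator M).index := by
    rw [← OneSeen.card_linHom, ← Nat.card_eq_finsetCard]
    refine (Nat.card_eq_of_bijective (fun μ : M →* ℂˣ => (⟨⟨_, isIrr_linear μ⟩, ?_⟩ : L)) ?_).symm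
    · exact Finset.mem_filter.2 ⟨Finset.mem_univ _, PIto.charDeg_eq (by simp)⟩
    · refine ⟨fun μ ν h => ?_, fun χ => ?_⟩
      · have h' := congrArg (fun z : L => ((z : IrrCharacter M) : M → ℂ)) h
        exact MonoidHom.ext fun g => Units.ext (congrFun h' g)
      · obtain ⟨μ, hμ⟩ := linearHom_of_isCharacter (irr_isChar χ.1) (by
          rw [charDeg_spec' χ.1, (Finset.mem_filter.1 χ.2).2, Nat.cast_one])
        exact ⟨μ, Subtype.ext (Subtype.ext hμ.symm)⟩
  have hfdeg : ∀ χ : IrrCharacter M, charDegree ((f χ : IrrCharacter M) : M → ℂ) =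
      charDegree (χ : M → ℂ) := fun χ => PIto.charDeg_eq (by
    show conjN M x (χ : M → ℂ) 1 = _
    simp [conjN_eq_comp, charDeg_spec' χ])
  obtain ⟨w, hw, hwsum⟩ := isIntegral_sum_div_prime hs f Φ
    (fun χ => (isIntegral_irr χ c).mul (by
      rw [charDeg_spec' χ, map_natCast]
      exact isIntegral_natCast _)) (Finset.univ \ L)
    (fun χ hχ => Finset.mem_sdiff.2 ⟨Finset.mem_univ _, fun h => (Finset.mem_sdiff.1 hχ).2
      (Finset.mem_filter.2 ⟨Finset.mem_univ _, hfdeg χ ▸ (Finset.mem_filter.1 h).2⟩)⟩)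
    (fun χ _ => by
      have hk : ∀ k, ((f^[k] χ : IrrCharacter M) : M → ℂ) = conjN M (x ^ k) (χ : M → ℂ) := by
        intro k
        induction k with
        | zero => simp [conjN_one]
        | succ k ihk =>
          rw [Function.iterate_succ_apply', pow_succ, conjN_mul, ← ihk]
      exact Subtype.ext (by rw [hk, hxs, conjN_one]))
    (fun χ hχ h => hmove χ (fun h1 => (Finset.mem_sdiff.1 hχ).2
        (Finset.mem_filter.2 ⟨Finset.mem_univ _, h1⟩))
      ((mem_inertia M).2 (congrArg Subtype.val h)))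
    (fun χ _ => by
      show conjN M x (χ : M → ℂ) c * conj (conjN M x (χ : M → ℂ) 1) = _
      rw [conjN_eq_comp]
      have hc' : conjEquivN M x c = c := by
        apply Subtype.ext
        show ((MulAut.conjNormal x c : M) : G) = c
        rw [MulAut.conjNormal_apply, hxc, mul_inv_cancel_right]
      simp [Φ, hc'])
  rw [← Finset.sum_sdiff (Finset.subset_univ L), hwsum, Finset.sum_congr rfl hlin,
    Finset.sum_const, nsmul_eq_mul, mul_one, hLcard] at hsum
  have hint : IsIntegral ℤ ((((commutator M).index : ℕ) : ℂ) / (s : ℂ)) := by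
    have : (((commutator M).index : ℕ) : ℂ) / (s : ℂ) = -w := by
      rw [div_eq_iff (Nat.cast_ne_zero.2 hs.ne_zero)]
      linear_combination hsum
    rw [this]
    exact hw.neg
  exact hs.ne_one (Nat.eq_one_of_dvd_coprimes hcop
    ((nat_dvd_of_isIntegral_div hs.ne_zero hint).trans (Subgroup.index_dvd_card _)) dvd_rfl)

/-- A coprime element of prime order centralising a quotient has fixed representatives. -/
theorem exists_fixed_rep (hs : s.Prime) (hxs : x ^ s = 1) (hcop : (Nat.card M).Coprime s)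
    (K : Subgroup G) [K.Normal] (hKM : K ≤ M) {m : G} (hm : x * m * x⁻¹ * m⁻¹ ∈ K) :
    ∃ c, x * c = c * x ∧ c * m⁻¹ ∈ K := by
  haveI := Fact.mk hs
  set P := Subgroup.zpowers x
  have hP : IsPGroup s P := by
    refine IsPGroup.of_card_dvd_pow (n := 1) ?_
    rw [pow_one, Nat.card_zpowers]
    exact orderOf_dvd_of_pow_eq_one hxs
  let T := {y : G // y * m⁻¹ ∈ K}
  have hstep : ∀ z ∈ P, ∀ y : G, y * m⁻¹ ∈ K → z * y * z⁻¹ * m⁻¹ ∈ K := by
    have h0 : ∀ z ∈ P, z * m * z⁻¹ * m⁻¹ ∈ K := by
      intro z hz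
      let St : Subgroup G := (Subgroup.centralizer {(QuotientGroup.mk' K) m}).comap
        (QuotientGroup.mk' K)
      have hx : x ∈ St := by
        rw [Subgroup.mem_comap, Subgroup.mem_centralizer_singleton_iff]
        have h1 := (QuotientGroup.eq_one_iff (x * m * x⁻¹ * m⁻¹)).2 hm
        rw [← QuotientGroup.mk'_apply, map_mul, map_mul, map_mul, map_inv, map_inv,
          mul_inv_eq_one, mul_inv_eq_iff_eq_mul] at h1
        exact h1
      have h2 := (Subgroup.zpowers_le.2 hx) hz
      rw [Subgroup.mem_comap, Subgroup.mem_centralizer_singleton_iff]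
        at h2
      rw [← QuotientGroup.eq_one_iff, ← QuotientGroup.mk'_apply, map_mul, map_mul, map_mul,
        map_inv, map_inv, mul_inv_eq_one, mul_inv_eq_iff_eq_mul]
      exact h2
    intro z hz y hy
    rw [show z * y * z⁻¹ * m⁻¹ = z * (y * m⁻¹) * z⁻¹ * (z * m * z⁻¹ * m⁻¹) by group]
    exact K.mul_mem ((inferInstance : K.Normal).conj_mem _ hy z) (h0 z hz)
  letI : MulAction P T :=
    { smul := fun z y => ⟨(z : G) * y.1 * (z : G)⁻¹, hstep z z.2 y.1 y.2⟩
      one_smul := fun y => Subtype.ext (show (1 : G) * y.1 * 1⁻¹ = y.1 by simp)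
      mul_smul := fun a b y => Subtype.ext
        (show (a : G) * b * y.1 * ((a : G) * b)⁻¹ = a * (b * y.1 * (b : G)⁻¹) * (a : G)⁻¹ by group) }
  have hT : Nat.card T = Nat.card K :=
    Nat.card_congr ((Equiv.mulRight m⁻¹).subtypeEquiv fun y => Iff.rfl)
  obtain ⟨y, hy⟩ := hP.nonempty_fixed_point_of_prime_not_dvd_card T (by
    rw [hT]
    intro hd
    exact hs.ne_one (Nat.eq_one_of_dvd_coprimes hcop (hd.trans (Subgroup.card_dvd_of_le hKM))
      dvd_rfl))
  have h1 : x * y.1 * x⁻¹ = y.1 := congrArg Subtype.val (hy ⟨x, Subgroup.mem_zpowers x⟩)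
  exact ⟨y.1, mul_inv_eq_iff_eq_mul.1 h1, y.2⟩

/-- A fixed-point-free element of prime order makes a normal subgroup nilpotent. -/
theorem nilpotent_of_fpf (hs : s.Prime) (hxs : x ^ s = 1) (K : Subgroup G) [hK : K.Normal]
    (hne : K ≠ ⊥) (hfpf : ∀ k ∈ K, x * k = k * x → k = 1) : Group.IsNilpotent K := by
  set φ : MulAut K := MulAut.conjNormal x
  have happ : ∀ k : K, ((φ k : K) : G) = x * k * x⁻¹ := fun k => MulAut.conjNormal_apply x k
  refine S0033.result φ (fun k hk => Subtype.ext (hfpf k k.2 ?_)) s hs ?_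
  · have h1 : x * (k : G) * x⁻¹ = k := (happ k).symm.trans (congrArg Subtype.val hk)
    exact mul_inv_eq_iff_eq_mul.1 h1
  · haveI := Fact.mk hs
    refine orderOf_eq_prime (by rw [← map_pow, hxs, map_one]) fun h1 => ?_
    obtain ⟨k, hk, hk1⟩ := (Subgroup.bot_or_exists_ne_one K).resolve_left hne
    refine hk1 (hfpf k hk ?_)
    have h2 := happ ⟨k, hk⟩
    rw [h1] at h2
    exact mul_inv_eq_iff_eq_mul.1 h2.symm

end Cfsg.Agent.Block.NDDTwo
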