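import Cfsg.Agent.Lib.Block.NDDTwo.Frame
import Cfsg.Agent.Lib.Char.InvariantCover
import Cfsg.Agent.Lib.Char.FeitCoherence
import Cfsg.Agent.Lib.Transfer.CN.MinSimple
import Cfsg.Agent.Lib.Char.OneSeen.Values

/-!
# Characters fixed by every linear twist

Over an invariant linear character of the derived subgroup such a character is unique, vanishes off
the derived subgroup and makes the commutator pairing nondegenerate.
-/

set_option autoImplicit false
set_option linter.style.haveILetI false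
set_option linter.unusedSectionVars false

open Cfsg
open scoped ComplexConjugate commutatorElement

namespace Cfsg.Agent.Block.NDDTwo

open Cfsg.Agent Cfsg.Agent.Char Cfsg.Agent.Block.DegreeRel Cfsg.Agent.Char.TwoDeg

universe u

variable {G : Type u} [Group G] [Fintype G] {N : Subgroup G} [hN : N.Normal] [Fintype N]

/-- The derived subgroup inside the group. -/
def dIncl (N : Subgroup G) : (⁅N, N⁆ : Subgroup G) →* N :=
  Subgroup.inclusion (Subgroup.commutator_le_self N)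

/-- Twist-fixed. -/
def TwistFixed (φ : N → ℂ) : Prop := ∀ (u : N →* ℂˣ) (n : N), (u n : ℂ) * φ n = φ n

/-- Lying over a linear character of the derived subgroup. -/
def Lies (φ : N → ℂ) (ν : (⁅N, N⁆ : Subgroup G) →* ℂˣ) : Prop :=
  ∀ z : (⁅N, N⁆ : Subgroup G), φ (dIncl N z) = φ 1 * (ν z : ℂ)

/-- Invariant under `N`. -/
def NInv (ν : (⁅N, N⁆ : Subgroup G) →* ℂˣ) : Prop := ∀ n ∈ N, cj n ν = ν

theorem mem_commutator_iff_mem (x : N) : x ∈ commutator N ↔ (x : G) ∈ ⁅N, N⁆ := by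
  rw [← Subgroup.map_subtype_commutator]
  exact (Subgroup.mem_map_iff_mem N.subtype_injective).symm

theorem exists_lies {ν : (⁅N, N⁆ : Subgroup G) →* ℂˣ} (hν : NInv ν) :
    ∃ φ : IrrCharacter N, Lies (φ : N → ℂ) ν := by
  classical
  set K : Subgroup N := (⁅N, N⁆ : Subgroup G).subgroupOf N
  haveI : K.Normal := Subgroup.Normal.subgroupOf inferInstance _
  haveI : Fintype K := Fintype.ofFinite _
  let e := Subgroup.subgroupOfEquivOfLe (Subgroup.commutator_le_self N : ⁅N, N⁆ ≤ N)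
  let ν' : K →* ℂˣ := ν.comp e.toMonoidHom
  obtain ⟨φ, hφ⟩ := DegreeRel.exists_over (G := N) (linIrr ν')
  refine ⟨φ, ?_⟩
  have horb : conjOrbit K ((linIrr ν' : IrrCharacter K) : K → ℂ) =
      {((linIrr ν' : IrrCharacter K) : K → ℂ)} := by
    refine Finset.ext fun ψ => ?_
    rw [mem_conjOrbit, Finset.mem_singleton]
    refine ⟨?_, fun h => ⟨1, h ▸ conjN_one _ _⟩⟩
    rintro ⟨g, rfl⟩
    funext k
    rw [conjN_apply]
    refine congrArg Units.val ?_
    show ν (e _) = ν (e k)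
    refine Eq.trans ?_ (DFunLike.congr_fun (hν g g.2) (e k))
    rw [cj_apply]
    exact congrArg ν (Subtype.ext rfl)
  have hc := clifford K φ.2 (linIrr ν').2 hφ
  rw [horb, Finset.sum_singleton] at hc
  intro z
  have e1 := congrFun hc ⟨dIncl N z, z.2⟩
  have e2 := congrFun hc 1
  simp only [Pi.smul_apply, smul_eq_mul, Subgroup.coe_one] at e1 e2
  rw [e2, e1]
  simp only [linIrr]
  rw [map_one, Units.val_one, mul_one]
  congr 1

theorem Lies.deg_ne_one {φ : IrrCharacter N} {ν : (⁅N, N⁆ : Subgroup G) →* ℂˣ}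
    (h : Lies (φ : N → ℂ) ν) (hν : ν ≠ 1) : charDegree (φ : N → ℂ) ≠ 1 := by
  intro h1
  obtain ⟨μ, hμ⟩ := linearHom_of_isCharacter (irr_isChar φ) (by
    rw [charDeg_spec' φ, h1, Nat.cast_one])
  refine hν (MonoidHom.ext fun z => Units.ext ?_)
  have hz := h z
  simp only [hμ, map_one, Units.val_one, one_mul] at hz
  rw [← hz, MonoidHom.mem_ker.1 (Abelianization.commutator_subset_ker μ
    ((mem_commutator_iff_mem _).2 z.2))]
  rfl

theorem Lies.mul_left {φ : IrrCharacter N} {ν : (⁅N, N⁆ : Subgroup G) →* ℂˣ}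
    (h : Lies (φ : N → ℂ) ν) (hν : NInv ν) (z : (⁅N, N⁆ : Subgroup G)) (g : N) :
    (φ : N → ℂ) (dIncl N z * g) = (ν z : ℂ) * (φ : N → ℂ) g := by
  obtain ⟨c, -, hc⟩ := IsIrr.exists_scalar φ.2 (z := dIncl N z) fun g => by
    let w : (⁅N, N⁆ : Subgroup G) :=
      ⟨(g : G) * (z : G) * (g : G)⁻¹, Subgroup.Normal.conj_mem inferInstance _ z.2 _⟩
    have hw : ν (z * w⁻¹) = 1 := by
      rw [map_mul, map_inv, mul_inv_eq_one]
      exact ((cj_apply (g : G) ν z).symm.trans (DFunLike.congr_fun (hν g g.2) z)).symm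
    have e : dIncl N z * g * (dIncl N z)⁻¹ * g⁻¹ = dIncl N (z * w⁻¹) :=
      Subtype.ext (by simp [dIncl, w, mul_assoc])
    rw [e, h, hw, Units.val_one, mul_one]
  have h1 := hc 1
  rw [mul_one, h, mul_comm c] at h1
  rw [hc, mul_left_cancel₀ (IsIrr.one_ne_zero φ.2) h1]

theorem TwistFixed.vanish {φ : N → ℂ} (h : TwistFixed φ) {x : N} (hx : (x : G) ∉ ⁅N, N⁆) :
    φ x = 0 := by
  obtain ⟨l, hl⟩ : ∃ l : N →* ℂˣ, l x ≠ 1 := by
    by_contra hno
    push Not at hno
    exact hx ((mem_commutator_iff_mem x).1 ((QuotientGroup.eq_one_iff x).1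
      (eq_one_of_forall_linear (G := Abelianization N) (fun a b => mul_comm a b)
        (g := Abelianization.of x) fun l => hno (l.comp Abelianization.of))))
  by_contra h0
  exact hl (Units.ext ((mul_eq_right₀ h0).1 (h l x)))

/-- Uniqueness. -/
theorem Lies.unique {φ ψ : IrrCharacter N} {ν : (⁅N, N⁆ : Subgroup G) →* ℂˣ}
    (hφ : Lies (φ : N → ℂ) ν) (hψ : Lies (ψ : N → ℂ) ν) (hφt : TwistFixed (φ : N → ℂ)) :
    (φ : N → ℂ) = (ψ : N → ℂ) := by
  classical
  by_contra hne
  have h0 := classInner_irr_ne φ.2 ψ.2 hne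
  rw [classInner, mul_eq_zero] at h0
  refine h0.elim (fun hc => ?_) fun hs => ?_
  · simp at hc
  have hterm : ∀ n : N, (φ : N → ℂ) n * conj ((ψ : N → ℂ) n) =
      if (n : G) ∈ ⁅N, N⁆ then ((charDegree (φ : N → ℂ) * charDegree (ψ : N → ℂ) : ℕ) : ℂ) else 0 := by
    intro n
    split_ifs with hn
    · have e : n = dIncl N ⟨n, hn⟩ := Subtype.ext rfl
      set z : (⁅N, N⁆ : Subgroup G) := ⟨n, hn⟩
      have hu : (ν z : ℂ) * conj (ν z : ℂ) = 1 := by
        have h : (ν z⁻¹ : ℂ) = conj (ν z : ℂ) := IsIrr.apply_inv (isIrr_linear ν) z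
        rw [← h, map_inv, Units.mul_inv]
      rw [e, hφ, hψ, charDeg_spec' φ, charDeg_spec' ψ, map_mul, map_natCast, Nat.cast_mul]
      linear_combination
        ((charDegree (φ : N → ℂ) : ℂ) * (charDegree (ψ : N → ℂ) : ℂ)) * hu
    · rw [hφt.vanish hn, zero_mul]
  rw [Finset.sum_congr rfl fun n _ => hterm n, Finset.sum_ite, Finset.sum_const_zero, add_zero,
    Finset.sum_const, nsmul_eq_mul, ← Nat.cast_mul, Nat.cast_eq_zero] at hs
  have hcard : 0 < (Finset.univ.filter fun n : N => (n : G) ∈ ⁅N, N⁆).card :=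
    Finset.card_pos.2 ⟨1, Finset.mem_filter.2 ⟨Finset.mem_univ _, by simp⟩⟩
  have := Nat.mul_pos hcard (Nat.mul_pos (charDeg_pos φ) (charDeg_pos ψ))
  omega

/-- The commutator pairing with a fixed element. -/
def pairZ (N : Subgroup G) [N.Normal] : Subgroup ((⁅N, N⁆ : Subgroup G) →* ℂˣ) where
  carrier := {ν | NInv ν}
  one_mem' := fun n _ => MonoidHom.ext fun z => by simp [cj_apply]
  mul_mem' {α β} (hα hβ : NInv _) n hn := by rw [cj_mul, hα n hn, hβ n hn]
  inv_mem' {α} (hα : NInv α) n hn := by rw [cj_inv, hα n hn]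

/-- `[x, n]` as an element of the derived subgroup. -/
def brk (x n : N) : (⁅N, N⁆ : Subgroup G) :=
  ⟨⁅(x : G), (n : G)⁆, Subgroup.commutator_mem_commutator x.2 n.2⟩

/-- The pairing as a homomorphism to the linear characters. -/
def pairHom (x : N) : pairZ N →* (N →* ℂˣ) where
  toFun ν :=
    { toFun := fun n => (ν : (⁅N, N⁆ : Subgroup G) →* ℂˣ) (brk x n)
      map_one' := by
        rw [show brk x 1 = 1 from Subtype.ext (by simp [brk]), map_one]
      map_mul' := fun n m => by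
        have e : brk x (n * m) = brk x n *
            ⟨(n : G) * (brk x m : G) * (n : G)⁻¹,
              Subgroup.Normal.conj_mem inferInstance _ (brk x m).2 _⟩ :=
          Subtype.ext (by simp [brk, commutatorElement_def, mul_assoc])
        rw [e, map_mul]
        congr 1
        exact (cj_apply (n : G) _ (brk x m)).symm.trans (DFunLike.congr_fun (ν.2 n n.2) (brk x m)) }
  map_one' := MonoidHom.ext fun n => rfl
  map_mul' := fun α β => MonoidHom.ext fun n => rfl

theorem pairHom_apply_self (x : N) (ν : pairZ N) : pairHom x ν x = 1 := by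
  show (ν : (⁅N, N⁆ : Subgroup G) →* ℂˣ) (brk x x) = 1
  rw [show brk x x = 1 from Subtype.ext (by simp [brk, commutatorElement_def]), map_one]

theorem pairHom_injective {x : N} (hx : (x : G) ∉ ⁅N, N⁆)
    (hfix : ∀ ψ : IrrCharacter N, charDegree (ψ : N → ℂ) ≠ 1 → TwistFixed (ψ : N → ℂ)) :
    Function.Injective (pairHom (N := N) x) := by
  rw [injective_iff_map_eq_one]
  intro ν hν
  by_contra hne
  have hν1 : (ν : (⁅N, N⁆ : Subgroup G) →* ℂˣ) ≠ 1 := fun h => hne (Subtype.ext h)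
  obtain ⟨φ, hφ⟩ := exists_lies (show NInv (ν : (⁅N, N⁆ : Subgroup G) →* ℂˣ) from ν.2)
  obtain ⟨c, hc1, hc⟩ := IsIrr.exists_scalar φ.2 (z := x) fun g => by
    rw [show x * g * x⁻¹ * g⁻¹ = dIncl N (brk x g) from
      Subtype.ext (by simp [dIncl, brk, commutatorElement_def]), hφ,
      show (ν : (⁅N, N⁆ : Subgroup G) →* ℂˣ) (brk x g) = 1 from DFunLike.congr_fun hν g,
      Units.val_one, mul_one]
  have h1 := hc 1
  rw [mul_one, (hfix φ (hφ.deg_ne_one hν1)).vanish hx] at h1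
  rcases mul_eq_zero.1 h1.symm with h2 | h2
  · rw [h2, norm_zero] at hc1
    exact zero_ne_one hc1
  · exact IsIrr.one_ne_zero φ.2 h2

theorem exists_ninv_ne_one [Group.IsNilpotent N] (hne : ⁅N, N⁆ ≠ ⊥) :
    ∃ ν : (⁅N, N⁆ : Subgroup G) →* ℂˣ, ν ≠ 1 ∧ NInv ν := by
  set L : Subgroup G := ⁅⁅N, N⁆, N⁆
  have hlt : L < ⁅N, N⁆ := Char.KerSets.commutator_lt N (Subgroup.commutator_le_self N) hne
  obtain ⟨x, hxK, hxL⟩ := SetLike.exists_of_lt hlt
  set K : Subgroup G := ⁅N, N⁆
  set L' : Subgroup K := L.subgroupOf K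
  haveI : L'.Normal := Subgroup.Normal.subgroupOf inferInstance _
  have hcomm : ∀ u v : K ⧸ L', u * v = v * u := fun u v => by
    induction u using QuotientGroup.induction_on with | _ u =>
    induction v using QuotientGroup.induction_on with | _ v =>
    rw [← QuotientGroup.mk_mul, ← QuotientGroup.mk_mul, QuotientGroup.eq, Subgroup.mem_subgroupOf,
      show ((u * v)⁻¹ * (v * u)) = ⁅v⁻¹, u⁻¹⁆ by rw [commutatorElement_def]; group,
      ← K.coe_subtype, map_commutatorElement]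
    exact Subgroup.commutator_mem_commutator (v⁻¹).2 (Subgroup.commutator_le_self N (u⁻¹).2)
  obtain ⟨l, hl⟩ : ∃ l : (K ⧸ L') →* ℂˣ, l ((⟨x, hxK⟩ : K) : K ⧸ L') ≠ 1 := by
    by_contra hno
    push Not at hno
    exact hxL ((QuotientGroup.eq_one_iff (N := L') (⟨x, hxK⟩ : K)).1
      (eq_one_of_forall_linear hcomm fun l => hno l))
  refine ⟨l.comp (QuotientGroup.mk' L'), fun h => hl (DFunLike.congr_fun h ⟨x, hxK⟩), ?_⟩
  intro n hn
  refine MonoidHom.ext fun z => ?_
  rw [cj_apply]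
  refine congrArg l (QuotientGroup.eq.2 ?_)
  show (n * (z : G) * n⁻¹)⁻¹ * (z : G) ∈ L
  rw [show (n * (z : G) * n⁻¹)⁻¹ * (z : G) = (⁅(z : G)⁻¹, n⁆)⁻¹ by
    rw [commutatorElement_def]; group]
  exact L.inv_mem (Subgroup.commutator_mem_commutator (K.inv_mem z.2) hn)

/-- Every prime of a nilpotent group divides the number of linear characters. -/
theorem prime_dvd_card_lin [hn : Group.IsNilpotent N] {p : ℕ} (hp : p.Prime) (h : p ∣ Nat.card N) :
    p ∣ Nat.card (N →* ℂˣ) := by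
  haveI := Fact.mk hp
  rw [OneSeen.card_linHom]
  by_contra hnd
  obtain ⟨P⟩ : Nonempty (Sylow p N) := inferInstance
  refine P.ne_bot_of_dvd_card h (Transfer.CN.sylow_eq_bot_of_le_commutator P fun x hx => ?_)
  obtain ⟨i, hi⟩ := IsPGroup.iff_orderOf.1 P.isPGroup' ⟨x, hx⟩
  rw [Subgroup.orderOf_mk] at hi
  have h2 : orderOf (QuotientGroup.mk' (commutator N) x) ∣ 1 := by
    rw [← Nat.Coprime.gcd_eq_one ((hp.coprime_iff_not_dvd.2 hnd).pow_left i)]
    exact Nat.dvd_gcd ((orderOf_map_dvd _ _).trans (dvd_of_eq hi))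
      ((commutator N).index_eq_card ▸ orderOf_dvd_natCard _)
  rw [Nat.dvd_one, orderOf_eq_one_iff] at h2
  exact (QuotientGroup.eq_one_iff x).1 h2

end Cfsg.Agent.Block.NDDTwo
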