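import Cfsg.Agent.Lib.Block.NDDTwo.NonlinComm
import Cfsg.Agent.Lib.Block.NDDTwo.Ramified

/-!
# A nilpotent kernel of a frame is commutative

Otherwise two orbit counts with the same multiplier are incompatible.
-/

set_option autoImplicit false
set_option linter.style.haveILetI false
set_option linter.unusedSectionVars false

open Cfsg
open scoped ComplexConjugate commutatorElement

namespace Cfsg.Agent.Block.NDDTwo

open Cfsg.Agent Cfsg.Agent.Char Cfsg.Agent.Block.DegreeRel Cfsg.Agent.Char.TwoDeg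

universe u

variable {G : Type u} [Group G] [Fintype G]

theorem finite_lin (N : Subgroup G) : Finite (N →* ℂˣ) := by
  haveI := Fintype.ofFinite N
  exact OneSeen.finite_linHom

theorem conjN_twist {N : Subgroup G} [N.Normal] (t : G) (u : N →* ℂˣ) (φ : N → ℂ) :
    conjN N t (fun n => (u n : ℂ) * φ n) = fun n => (cj t u n : ℂ) * conjN N t φ n := by
  funext n
  rw [conjN_apply, cj_apply, conjN_apply]

/-- The twists fixing a function. -/
def twStab {N : Subgroup G} (φ : N → ℂ) : Subgroup (N →* ℂˣ) where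
  carrier := {u | ∀ n, (u n : ℂ) * φ n = φ n}
  one_mem' n := by simp
  mul_mem' {u v} hu hv n := by rw [MonoidHom.mul_apply, Units.val_mul, mul_assoc, hv n, hu n]
  inv_mem' {u} hu n := by
    rw [MonoidHom.inv_apply]
    calc ((u n)⁻¹ : ℂˣ).val * φ n = ((u n)⁻¹ : ℂˣ).val * ((u n : ℂ) * φ n) := by rw [hu n]
      _ = φ n := by rw [← mul_assoc, Units.inv_mul, one_mul]

/-- Counting an invariant `p`-group of linear characters. -/
theorem count_pgroup {K : Subgroup G} [K.Normal] {T : Subgroup G} {a : G} {l i : ℕ}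
    (hcomm : ∀ u ∈ T, ∀ v ∈ T, u * v = v * u) (ha : ∀ u ∈ T, a⁻¹ * u * a ∈ T) (hl : l.Prime)
    (han : a ^ l ^ i = 1) (Y : Subgroup (K →* ℂˣ)) (hYT : ∀ μ ∈ Y, ∀ t ∈ T, cj t μ ∈ Y)
    {μ₀ : K →* ℂˣ} (hμ₀ : μ₀ ∈ Y) (hμ₁ : μ₀ ≠ 1)
    (horb : ∀ μ ∈ Y, μ ≠ 1 → ∃ t ∈ T, cj a μ = cj t μ)
    (hstab : ∀ μ ∈ Y, μ ≠ 1 → ∀ t ∈ T, cj t μ = μ → a * t = t * a)
    (hidx : ∀ μ ∈ Y, μ ≠ 1 → ((stabL μ).relIndex T).Coprime l) {p n : ℕ} (hp : p.Prime)
    (hY : Nat.card Y = p ^ n) :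
    ∃ j ≤ n, p ^ n - 1 = Nat.card (delta hcomm ha).range * (p ^ j - 1) := by
  classical
  haveI := Fact.mk hp
  haveI := finite_lin K
  set Y' : Subgroup (K →* ℂˣ) := Y ⊓ MonoidHom.eqLocus (cjHom a) (MonoidHom.id _)
  obtain ⟨j, hj, hj'⟩ := (Nat.dvd_prime_pow hp).1
    (hY ▸ Subgroup.card_dvd_of_le (inf_le_left : Y' ≤ Y))
  refine ⟨j, hj, ?_⟩
  have h1 := card_eq_range_mul_fixed hcomm ha hl han {μ | μ ∈ Y ∧ μ ≠ 1}
    (fun μ hμ t ht => ⟨hYT μ hμ.1 t ht, fun h => hμ.2 (by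
      have h2 := congrArg (cj t⁻¹) h
      rw [cj_cj, mul_inv_cancel, cj_one] at h2
      exact h2.trans (MonoidHom.ext fun k => by simp [cj_apply]))⟩)
    (μ₀ := μ₀) ⟨hμ₀, hμ₁⟩ (fun μ hμ => horb μ hμ.1 hμ.2) (fun μ hμ => hstab μ hμ.1 hμ.2)
    (fun μ hμ => hidx μ hμ.1 hμ.2)
  have e1 : Nat.card {μ | μ ∈ Y ∧ μ ≠ 1} = p ^ n - 1 := by
    rw [← hY, show {μ | μ ∈ Y ∧ μ ≠ 1} = (Y : Set (K →* ℂˣ)) \ {1} from Set.ext fun μ => Iff.rfl,
      Nat.card_coe_set_eq, Set.ncard_sdiff_singleton_of_mem Y.one_mem, ← Nat.card_coe_set_eq]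
    rfl
  have e2 : Nat.card {μ // μ ∈ {μ | μ ∈ Y ∧ μ ≠ 1} ∧ cj a μ = μ} = p ^ j - 1 := by
    rw [← hj', show Nat.card {μ // μ ∈ {μ | μ ∈ Y ∧ μ ≠ 1} ∧ cj a μ = μ} =
        Nat.card ↥((Y' : Set (K →* ℂˣ)) \ {1}) from Nat.card_congr (Equiv.subtypeEquivRight
          fun μ => ⟨fun h => ⟨⟨h.1.1, h.2⟩, h.1.2⟩, fun h => ⟨⟨h.1.1, h.2⟩, h.1.2⟩⟩),
      Nat.card_coe_set_eq, Set.ncard_sdiff_singleton_of_mem Y'.one_mem, ← Nat.card_coe_set_eq]
    rfl
  rw [e1, e2] at h1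
  exact h1

namespace Frame

variable {F N T : Subgroup G} [hN : N.Normal] [Fintype N] {D : Set ℕ} {s l : ℕ} {a : G}

/-- An element fixing one nontrivial linear character fixes all. -/
theorem fix_all (h : Frame F D s l N T a) {b : G} (hb : b ∈ T) {μ ν : N →* ℂˣ} (hν : ν ≠ 1)
    (hbν : cj b ν = ν) : cj b μ = μ := by
  by_cases hμ : μ = 1
  · rw [hμ]; exact MonoidHom.ext fun k => by simp [cj_apply]
  · exact h.stab_eq hν hμ ⟨hb, hbν⟩

/-- Elements of `T` whose order is a power of a prime of `N` fix every linear character. -/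
theorem part_fix (h : Frame F D s l N T a) [Group.IsNilpotent N] {b : G} (hb : b ∈ T) {p k : ℕ}
    (hp : p.Prime) (hpN : p ∣ Nat.card N) (hord : orderOf b = p ^ k) (μ : N →* ℂˣ) :
    cj b μ = μ := by
  haveI := Fact.mk hp
  haveI := finite_lin N
  let P := Subgroup.zpowers b
  have hP : IsPGroup p P := IsPGroup.of_card (by rw [Nat.card_zpowers, hord])
  letI : MulAction P (N →* ℂˣ) :=
    { smul := fun z ν => cj ((z : G)⁻¹) ν
      one_smul := fun ν => show cj ((1 : G)⁻¹) ν = ν by rw [inv_one, cj_one]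
      mul_smul := fun x y ν => show cj (((x : G) * y)⁻¹) ν = cj (x : G)⁻¹ (cj (y : G)⁻¹ ν) by
        rw [cj_cj, mul_inv_rev] }
  obtain ⟨ν, hν, hν1⟩ := hP.exists_fixed_point_of_prime_dvd_card_of_fixed_point (N →* ℂˣ)
    (prime_dvd_card_lin hp hpN) (a := (1 : N →* ℂˣ))
    (fun z => MonoidHom.ext fun x => (show cj ((z : G)⁻¹) (1 : N →* ℂˣ) x = _ by simp [cj_apply]))
  refine h.fix_all hb (Ne.symm hν1) ?_
  have h1 : cj ((b⁻¹ : G)⁻¹) ν = ν := hν ⟨b⁻¹, P.inv_mem (Subgroup.mem_zpowers b)⟩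
  rwa [inv_inv] at h1

/-- Fixed twists go down along a fixed-point-free element. -/
theorem stab_twist (h : Frame F D s l N T a) {μ : N →* ℂˣ} (hμ : μ ≠ 1) {ψ : N → ℂ} {t : G}
    (ht : t ∈ T) (hfix : conjN N t ψ = ψ) (htμ : t ∉ stabL μ) {w : N →* ℂˣ}
    (hw : cj t w * w⁻¹ ∈ twStab ψ) : w ∈ twStab ψ := by
  haveI := finite_lin N
  have hinv : ∀ v ∈ twStab ψ, cj t v ∈ twStab ψ := fun v hv n => by
    have h1 := congrFun (conjN_twist t v ψ) n
    rw [show (fun n => (v n : ℂ) * ψ n) = ψ from funext hv, hfix] at h1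
    exact h1.symm
  have hinj : ∀ v v' : N →* ℂˣ, cj t v * v⁻¹ = cj t v' * v'⁻¹ → v = v' := by
    intro v v' e
    by_contra hne
    refine htμ (h.fix_all ht (ν := v * v'⁻¹) (fun h1 => hne ?_) ?_)
    · exact MonoidHom.ext fun n => mul_inv_eq_one.1 (DFunLike.congr_fun h1 n)
    · rw [cj_mul, cj_inv]
      refine MonoidHom.ext fun n => ?_
      have e' := DFunLike.congr_fun e n
      simp only [MonoidHom.mul_apply, MonoidHom.inv_apply] at e' ⊢
      rw [mul_inv_eq_iff_eq_mul] at e' ⊢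
      rw [e']
      simp [mul_comm, mul_left_comm, mul_assoc]
  let g : twStab ψ → twStab ψ := fun v =>
    ⟨cj t v.1 * v.1⁻¹, (twStab ψ).mul_mem (hinv _ v.2) ((twStab ψ).inv_mem v.2)⟩
  have hg : Function.Injective g := fun v v' e => Subtype.ext (hinj _ _ (congrArg Subtype.val e))
  obtain ⟨v, hv⟩ := Finite.injective_iff_surjective.1 hg ⟨_, hw⟩
  exact hinj _ _ (congrArg Subtype.val hv) ▸ v.2

/-- Every nonlinear character of `N` is fixed by every linear twist. -/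
theorem twistFixed (h : Frame F D s l N T a) {μ : N →* ℂˣ} (hμ : μ ≠ 1) (φ : IrrCharacter N)
    (hφ : charDegree (φ : N → ℂ) ≠ 1) : TwistFixed (φ : N → ℂ) := by
  classical
  have hex : ∀ θ : IrrCharacter N, charDegree (θ : N → ℂ) ≠ 1 →
      ∃ t ∈ T, conjN N t (θ : N → ℂ) = (θ : N → ℂ) ∧ t ∉ stabL μ := by
    intro θ hθ
    have := h.not_small hμ hθ
    rw [SetLike.not_le_iff_exists] at this
    obtain ⟨t, ht, htμ⟩ := this
    exact ⟨t, ht.1, (mem_inertia N).1 ht.2, htμ⟩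
  intro u
  change u ∈ twStab (φ : N → ℂ)
  by_contra hu
  obtain ⟨t, ht, htφ, htμ⟩ := hex φ hφ
  let ψ : IrrCharacter N := ⟨_, IsIrr.mul_linear φ.2 u⟩
  have hψ : charDegree (ψ : N → ℂ) ≠ 1 := by
    have : charDegree (ψ : N → ℂ) = charDegree (φ : N → ℂ) := PIto.charDeg_eq (by
      show (u 1 : ℂ) * (φ : N → ℂ) 1 = _
      rw [map_one, Units.val_one, one_mul, charDeg_spec' φ])
    rwa [this]
  obtain ⟨t', ht', htψ, ht'μ⟩ := hex ψ hψ
  have hA : ∀ v, v ∈ twStab (ψ : N → ℂ) → v ∈ twStab (φ : N → ℂ) := fun v hv n => by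
    have h1 := hv n
    simp only [ψ] at h1
    rw [mul_left_comm] at h1
    exact mul_left_cancel₀ (u n).ne_zero h1
  set w := cj t u * u⁻¹ with hw
  have hwA : w ∉ twStab (φ : N → ℂ) := fun hw' => hu (h.stab_twist hμ ht htφ htμ hw')
  -- the conjugate of `ψ` by `t` is its twist by `w`
  have e1 : conjN N t (ψ : N → ℂ) = fun n => (w n : ℂ) * (ψ : N → ℂ) n := by
    show conjN N t (fun n => (u n : ℂ) * (φ : N → ℂ) n) = _
    rw [conjN_twist, htφ]
    funext n
    show _ = (w n : ℂ) * ((u n : ℂ) * (φ : N → ℂ) n)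
    rw [← mul_assoc, ← Units.val_mul, hw, MonoidHom.mul_apply, MonoidHom.inv_apply,
      inv_mul_cancel_right]
  have e2 : conjN N t' (conjN N t (ψ : N → ℂ)) = conjN N t (ψ : N → ℂ) := by
    rw [← conjN_mul, h.tcomm t ht t' ht', conjN_mul, htψ]
  rw [e1, conjN_twist, htψ] at e2
  refine hwA (hA _ (h.stab_twist hμ ht' htψ ht'μ fun n => ?_))
  have h2 := congrFun e2 n
  rw [MonoidHom.mul_apply, MonoidHom.inv_apply, Units.val_mul, mul_right_comm, h2, mul_comm,
    ← mul_assoc, Units.inv_mul, one_mul]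

theorem exists_horb (h : Frame F D s l N T a) {I : Subgroup G} (hNI : N ≤ I) (htop : F ⊔ I = ⊤)
    {K : Subgroup G} [K.Normal] (μ : K →* ℂˣ) (hI : ∀ g ∈ I, cj g μ = μ) :
    ∃ t ∈ T, cj a μ = cj t μ := by
  obtain ⟨t, ht, htI⟩ := h.exists_shift hNI htop
  refine ⟨a⁻¹ * t * a, h.anorm t ht, ?_⟩
  conv_lhs => rw [← hI _ htI]
  rw [cj_cj]

set_option maxHeartbeats 1600000 in
/-- The kernel is commutative. -/
theorem kernel_comm (h : Frame F D s l N T a) [Group.IsNilpotent N] :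
    ∀ x ∈ N, ∀ y ∈ N, x * y = y * x := by
  classical
  by_contra hne
  push Not at hne
  obtain ⟨x₀, hx₀, y₀, hy₀, hxy⟩ := hne
  haveI := finite_lin N
  haveI := finite_lin (⁅N, N⁆ : Subgroup G)
  haveI := h.normal
  have hKne : (⁅N, N⁆ : Subgroup G) ≠ ⊥ := fun hb => hxy (commutatorElement_eq_one_iff_mul_comm.1
    (Subgroup.mem_bot.1 (hb ▸ Subgroup.commutator_mem_commutator hx₀ hy₀)))
  obtain ⟨ν₁, hν₁, hν₁'⟩ := exists_ninv_ne_one (N := N) hKne
  obtain ⟨x, hxN, hxK⟩ := SetLike.exists_of_lt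
    (Char.KerSets.commutator_lt N le_rfl (fun hb => hxy (by
      have hx1 : x₀ = 1 := by rw [hb] at hx₀; exact Subgroup.mem_bot.1 hx₀
      rw [hx1, one_mul, mul_one])))
  obtain ⟨μ, hμ⟩ : ∃ μ : N →* ℂˣ, μ ≠ 1 := by
    obtain ⟨l', hl'⟩ : ∃ l' : N →* ℂˣ, l' ⟨x, hxN⟩ ≠ 1 := by
      by_contra hno
      push Not at hno
      exact hxK ((mem_commutator_iff_mem ⟨x, hxN⟩).1 ((QuotientGroup.eq_one_iff _).1
        (eq_one_of_forall_linear (G := Abelianization N) (fun a b => mul_comm a b)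
          (g := Abelianization.of ⟨x, hxN⟩) fun l' => hno (l'.comp Abelianization.of))))
    exact ⟨l', fun h1 => hl' (by rw [h1]; rfl)⟩
  have htw := h.twistFixed hμ
  -- pick the prime
  obtain ⟨p, hp, hpZ⟩ := Nat.exists_prime_and_dvd (n := Nat.card (pairZ N)) (fun h1 => hν₁ (by
    have := (Nat.card_eq_one_iff_unique.1 h1).1
    exact congrArg Subtype.val (Subsingleton.elim (⟨ν₁, hν₁'⟩ : pairZ N) 1)))
  haveI := Fact.mk hp
  obtain ⟨z, hz⟩ := exists_prime_orderOf_dvd_card' (G := pairZ N) p hpZ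
  have hpair := pairHom_injective (x := ⟨x, hxN⟩) hxK htw
  set v := pairHom (⟨x, hxN⟩ : N) z with hvdef
  have hvp : orderOf v = p := by rw [hvdef, orderOf_injective _ hpair, hz]
  obtain ⟨w, hw⟩ : ∃ w : N, v w ≠ 1 := by
    by_contra hno
    push Not at hno
    exact hp.ne_one (by rw [← hvp, show v = 1 from MonoidHom.ext hno, orderOf_one])
  have hwK : (w : G) ∉ ⁅N, N⁆ := fun hwK =>
    hw (MonoidHom.mem_ker.1 (Abelianization.commutator_subset_ker v ((mem_commutator_iff_mem w).2 hwK)))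
  -- the two groups
  let VP : Subgroup (N →* ℂˣ) :=
    { carrier := {u | ∃ k : ℕ, u ^ (p ^ k) = 1}
      one_mem' := ⟨0, one_pow _⟩
      mul_mem' := fun {a b} ⟨i, hi⟩ ⟨j, hj⟩ => ⟨i + j, MonoidHom.ext fun n => by
        have hi' := DFunLike.congr_fun hi n
        have hj' := DFunLike.congr_fun hj n
        simp only [MonoidHom.pow_apply, MonoidHom.one_apply] at hi' hj' ⊢
        rw [MonoidHom.mul_apply, mul_pow, pow_add, pow_mul, hi', one_pow, one_mul, mul_comm,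
          pow_mul, hj', one_pow]⟩
      inv_mem' := fun {a} ⟨i, hi⟩ => ⟨i, MonoidHom.ext fun n => by
        have hi' := DFunLike.congr_fun hi n
        simp only [MonoidHom.pow_apply, MonoidHom.one_apply] at hi' ⊢
        rw [MonoidHom.inv_apply, inv_pow, hi', inv_one]⟩ }
  let ZP : Subgroup ((⁅N, N⁆ : Subgroup G) →* ℂˣ) :=
    { carrier := {u | NInv u ∧ ∃ k : ℕ, u ^ (p ^ k) = 1}
      one_mem' := ⟨(pairZ N).one_mem, 0, one_pow _⟩
      mul_mem' := fun {a b} ⟨ha, i, hi⟩ ⟨hb, j, hj⟩ => ⟨(pairZ N).mul_mem ha hb, i + j,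
        MonoidHom.ext fun n => by
        have hi' := DFunLike.congr_fun hi n
        have hj' := DFunLike.congr_fun hj n
        simp only [MonoidHom.pow_apply, MonoidHom.one_apply] at hi' hj' ⊢
        rw [MonoidHom.mul_apply, mul_pow, pow_add, pow_mul, hi', one_pow, one_mul, mul_comm,
          pow_mul, hj', one_pow]⟩
      inv_mem' := fun {a} ⟨ha, i, hi⟩ => ⟨(pairZ N).inv_mem ha, i, MonoidHom.ext fun n => by
        have hi' := DFunLike.congr_fun hi n
        simp only [MonoidHom.pow_apply, MonoidHom.one_apply] at hi' ⊢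
        rw [MonoidHom.inv_apply, inv_pow, hi', inv_one]⟩ }
  have hVPp : IsPGroup p VP := fun u => u.2.imp fun k hk => Subtype.ext (by simpa using hk)
  have hZPp : IsPGroup p ZP := fun u => u.2.2.imp fun k hk => Subtype.ext (by simpa using hk)
  obtain ⟨n, hn⟩ := IsPGroup.iff_card.1 hVPp
  obtain ⟨k, hk⟩ := IsPGroup.iff_card.1 hZPp
  have hvVP : v ∈ VP := ⟨1, by rw [pow_one, ← hvp, pow_orderOf_eq_one]⟩
  have hzZP : (z : (⁅N, N⁆ : Subgroup G) →* ℂˣ) ∈ ZP := ⟨z.2, 1, by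
    rw [pow_one, ← hz, ← Subgroup.coe_pow, pow_orderOf_eq_one]; rfl⟩
  have hz1 : (z : (⁅N, N⁆ : Subgroup G) →* ℂˣ) ≠ 1 := fun h1 => hp.ne_one (by
    rw [← hz, show z = 1 from Subtype.ext h1, orderOf_one])
  have hv1 : v ≠ 1 := fun h1 => hw (by rw [h1]; rfl)
  -- the strict inequality
  have hkn : k < n := by
    let j : ZP → VP := fun u => ⟨pairHom w ⟨u.1, u.2.1⟩, u.2.2.imp fun k hk => MonoidHom.ext fun m => by
      rw [MonoidHom.pow_apply]
      exact DFunLike.congr_fun hk (brk w m)⟩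
    have hj : Function.Injective j := fun u u' e => by
      have e1 := pairHom_injective (x := w) hwK htw (congrArg Subtype.val e)
      exact Subtype.ext (congrArg (fun t : pairZ N => (t : (⁅N, N⁆ : Subgroup G) →* ℂˣ)) e1)
    have hle : Nat.card ZP ≤ Nat.card VP := Nat.card_le_card_of_injective j hj
    rw [hk, hn] at hle
    rcases lt_or_eq_of_le ((Nat.pow_le_pow_iff_right hp.one_lt).1 hle) with h1 | h1
    · exact h1
    obtain ⟨u, hu⟩ := ((Nat.bijective_iff_injective_and_card j).2 ⟨hj, by rw [hk, hn, h1]⟩).2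
      ⟨v, hvVP⟩
    refine absurd ?_ hw
    rw [← show pairHom w ⟨u.1, u.2.1⟩ = v from congrArg Subtype.val hu]
    exact pairHom_apply_self w _
  have hk1 : 1 ≤ k := by
    refine Nat.one_le_iff_ne_zero.2 fun h0 => hz1 ?_
    rw [h0, pow_zero] at hk
    haveI := (Nat.card_eq_one_iff_unique.1 hk).1
    exact congrArg Subtype.val (Subsingleton.elim (⟨_, hzZP⟩ : ZP) 1)
  obtain ⟨e, he⟩ := h.aord
  -- the count on linear characters
  obtain ⟨i, -, hi⟩ := count_pgroup h.tcomm h.anorm h.hl he VP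
    (fun u hu t _ => hu.imp fun k hk => MonoidHom.ext fun m => by
      rw [MonoidHom.pow_apply, cj_apply]
      exact DFunLike.congr_fun hk _)
    hvVP hv1
    (fun u _ hu => by
      obtain ⟨htop, -, -, -⟩ := h.toSetting.orbit_data h.nle (h.lin_cond hu)
      rw [show inertia N ((linIrr u : IrrCharacter N) : N → ℂ) = stabL u from
        (stabL_eq_inertia u).symm] at htop
      exact h.exists_horb (le_stabL u) htop u fun g hg => hg)
    (fun u _ hu t ht hfix => h.lin_comm hu ht hfix)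
    (fun u _ hu => h.copl _ (h.lin_deg hu)) hp hn
  -- the facts for the invariant characters of the derived subgroup
  have hsame : ∀ {ν : (⁅N, N⁆ : Subgroup G) →* ℂˣ}, ν ≠ 1 → ∀ φ : IrrCharacter N,
      Lies (φ : N → ℂ) ν → ∀ g : G, g ∈ stabL ν ↔ g ∈ inertia N (φ : N → ℂ) := by
    intro ν hν φ hφ g
    have hval : ∀ z : (⁅N, N⁆ : Subgroup G),
        conjN N g (φ : N → ℂ) (dIncl N z) = (φ : N → ℂ) 1 * (cj g ν z : ℂ) := fun z => by
      rw [conjN_apply, cj_apply, ← hφ]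
      exact congrArg (φ : N → ℂ) (Subtype.ext rfl)
    have h1' : conjN N g (φ : N → ℂ) 1 = (φ : N → ℂ) 1 := by
      rw [conjN_eq_comp]
      simp only [map_one]
    constructor
    · intro hg
      refine (mem_inertia N).2 ((Lies.unique (ψ := ⟨_, IsIrr.conjN N φ.2 g⟩) hφ
        (fun z => ?_) (htw φ (hφ.deg_ne_one hν))).symm)
      show conjN N g (φ : N → ℂ) (dIncl N z) = conjN N g (φ : N → ℂ) 1 * _
      rw [hval, h1', mem_stabL.1 hg]
    · intro hg
      refine mem_stabL.2 (MonoidHom.ext fun z => Units.ext ?_)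
      have h2 := hval z
      rw [(mem_inertia N).1 hg, hφ] at h2
      exact (mul_left_cancel₀ (IsIrr.one_ne_zero φ.2) h2).symm
  obtain ⟨j, hjk, hj⟩ := count_pgroup h.tcomm h.anorm h.hl he ZP
    (fun u hu t ht => ⟨fun m hm => by
        have h1 : cj (t * m * t⁻¹) u = u := hu.1 _ (hN.conj_mem _ hm t)
        rw [cj_cj, show t * m = t * m * t⁻¹ * t by group, ← cj_cj, h1],
      hu.2.imp fun k hk => MonoidHom.ext fun m => by
        rw [MonoidHom.pow_apply, cj_apply]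
        exact DFunLike.congr_fun hk _⟩)
    hzZP hz1
    (fun u hu hu1 => by
      obtain ⟨φ, hφ⟩ := exists_lies hu.1
      obtain ⟨htop, -, -, -⟩ := h.toSetting.orbit_data h.nle (Or.inl (hφ.deg_ne_one hu1))
      exact h.exists_horb (le_inertia N (IsIrr.classFun φ.2)) htop u fun g hg =>
        mem_stabL.1 ((hsame hu1 φ hφ g).2 hg))
    (fun u hu hu1 t ht hfix => by
      obtain ⟨φ, hφ⟩ := exists_lies hu.1
      exact h.nonlin_comm (fun b hb q c hq hqN hord => h.lin_comm hμ hb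
          (h.part_fix hb hq hqN hord μ)) φ (hφ.deg_ne_one hu1) ht
        ((hsame hu1 φ hφ t).1 hfix))
    (fun u hu hu1 => by
      obtain ⟨φ, hφ⟩ := exists_lies hu.1
      obtain ⟨-, hrel, -, d, hd, hdvd⟩ :=
        h.toSetting.orbit_data h.nle (Or.inl (hφ.deg_ne_one hu1))
      rw [← Subgroup.inf_relIndex_right, show stabL u ⊓ T = inertia N (φ : N → ℂ) ⊓ T from
        Subgroup.ext fun g => and_congr_left fun _ => hsame hu1 φ hφ g,
        Subgroup.inf_relIndex_right, ← h.relIndex_eq (le_inertia N (IsIrr.classFun φ.2)), hrel]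
      exact (h.copl _ hd).coprime_dvd_left ((dvd_mul_left _ _).trans hdvd)) hp hk
  refine no_count hp ?_ hi hj hk1 hkn hjk
  obtain ⟨t, ht, hta⟩ := h.aact
  rw [Finite.one_lt_card_iff_nontrivial]
  exact (Subgroup.nontrivial_iff_ne_bot _).2 fun hb => hta
    ((delta_eq_one_iff h.tcomm h.anorm ⟨t, ht⟩).1 (Subgroup.mem_bot.1 (hb ▸ ⟨_, rfl⟩)))

/-- All degrees are equal. -/
theorem eq_of_nilpotent (h : Frame F D s l N T a) [Group.IsNilpotent N] :
    ∀ d ∈ D, ∀ e ∈ D, d = e :=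
  h.eq_of_comm h.kernel_comm

end Frame

end Cfsg.Agent.Block.NDDTwo
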