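import Cfsg.Agent.Lib.Block.NDDTwo.Cases
import Cfsg.Agent.Lib.Block.NDDTwo.Fpf
import Cfsg.Agent.Lib.Block.NDDTwo.FrameMain

/-!
# All degrees are equal

The last case: `Q` is commutative and centralises `M` modulo `M'`.
-/

set_option autoImplicit false
set_option linter.style.haveILetI false
set_option linter.unusedSectionVars false

open Cfsg
open scoped ComplexConjugate commutatorElement

namespace Cfsg.Agent.Block.NDDTwo.Ctx

open Cfsg.Agent Cfsg.Agent.Char Cfsg.Agent.Block.DegreeRel Cfsg.Agent.Char.TwoDeg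

universe u

variable {G : Type u} [Group G] [Fintype G] {F M Q : Subgroup G} {D : Set ℕ} {s l : ℕ} {a : G}
  [hM : M.Normal] [Fintype M]

/-- An element of order `s` of `Q` commuting only trivially with the operator. -/
theorem exists_moving (h : Ctx F D s l M Q a) (hQ : ∀ u ∈ Q, ∀ v ∈ Q, u * v = v * u) :
    ∃ x ∈ Q, x ^ s = 1 ∧ a * x ≠ x * a := by
  haveI := Fact.mk h.hs
  obtain ⟨i, hi⟩ := h.aord
  obtain ⟨q, hq, hqa⟩ := h.aact
  set δ := delta hQ h.anorm
  have hδne : δ.range ≠ ⊥ := fun hb => hqa ((delta_eq_one_iff hQ h.anorm ⟨q, hq⟩).1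
    (Subgroup.mem_bot.1 (hb ▸ ⟨_, rfl⟩)))
  have hcop : ∀ z ∈ δ.range, (orderOf z).Coprime l := fun z _ => by
    obtain ⟨j, hj⟩ := h.qp z
    exact (Nat.Coprime.pow_left j ((Nat.coprime_primes h.hs h.hl).2 h.hsl)).coprime_dvd_left
      (orderOf_dvd_of_pow_eq_one hj)
  haveI : Nontrivial δ.range := (Subgroup.nontrivial_iff_ne_bot _).2 hδne
  obtain ⟨r, hr⟩ := exists_prime_orderOf_dvd_card' (G := δ.range) s (by
    obtain ⟨j, hj⟩ := IsPGroup.iff_card.1 (h.qp.to_subgroup δ.range)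
    rw [hj]
    refine dvd_pow_self s fun h0 => ?_
    rw [h0, pow_zero] at hj
    exact (Finite.one_lt_card (α := δ.range)).ne' hj)
  refine ⟨((r : Q) : G), (r : Q).2, ?_, fun hc => h.hs.ne_one ?_⟩
  · have := congrArg (fun z : δ.range => ((z : Q) : G)) (hr ▸ pow_orderOf_eq_one r)
    simpa using this
  · rw [← hr, show r = 1 from Subtype.ext (delta_range_fixed hQ h.anorm hi r.2 hc hcop), orderOf_one]

/-- All degrees in `D` are equal. -/
theorem eq_all (h : Ctx F D s l M Q a) : ∀ d ∈ D, ∀ e ∈ D, d = e := by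
  classical
  by_cases hMc : ∀ x ∈ M, ∀ y ∈ M, x * y = y * x
  · exact h.eq_of_abelian hMc
  obtain ⟨θ₀, hθ₀⟩ : ∃ θ : IrrCharacter M, charDegree (θ : M → ℂ) ≠ 1 := by
    by_contra hno
    push Not at hno
    exact hMc fun x hx y hy =>
      congrArg Subtype.val ((comm_iff_linear M).2 hno ⟨x, hx⟩ ⟨y, hy⟩)
  have hQ := h.comm_of_nonabelian θ₀ hθ₀
  by_cases hlin : ∀ lam : M →* ℂˣ, Q ≤ stabL lam
  swap
  · push Not at hlin
    obtain ⟨lam, hlam⟩ := hlin
    exact h.eq_of_moved hQ lam hlam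
  obtain ⟨x, hxQ, hxs, hxa⟩ := h.exists_moving hQ
  have hmove : ∀ θ : IrrCharacter M, charDegree (θ : M → ℂ) ≠ 1 → x ∉ inertia M (θ : M → ℂ) :=
    fun θ hθ hx => hxa (h.stab_comm hQ θ (Or.inl hθ) hxQ hx)
  set N : Subgroup G := ⁅M, M⁆ with hN
  haveI : N.Normal := inferInstanceAs (⁅M, M⁆ : Subgroup G).Normal
  haveI := Fintype.ofFinite N
  have hNM : N ≤ M := Subgroup.commutator_le_self M
  have hfpf : ∀ k ∈ N, x * k = k * x → k = 1 := fun k hk hxk =>
    congrArg Subtype.val (fpf_on_commutator h.hs hxs h.mcop hmove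
      (c := ⟨k, hNM hk⟩) ((mem_commutator_iff_mem (N := M) _).2 hk) hxk)
  have hNne : N ≠ ⊥ := fun hb => hMc fun u hu v hv => commutatorElement_eq_one_iff_mul_comm.1
    (Subgroup.mem_bot.1 (hb ▸ Subgroup.commutator_mem_commutator hu hv))
  haveI := nilpotent_of_fpf h.hs hxs N hNne hfpf
  -- `Q` centralises `M` modulo `M'`
  have hcong : ∀ q ∈ Q, ∀ m ∈ M, q * m * q⁻¹ * m⁻¹ ∈ N := by
    intro q hq m hm
    have hw : q * m * q⁻¹ * m⁻¹ ∈ M := M.mul_mem (hM.conj_mem m hm q) (M.inv_mem hm)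
    refine (mem_commutator_iff_mem ⟨_, hw⟩).1 ((QuotientGroup.eq_one_iff _).1
      (eq_one_of_forall_linear (G := Abelianization M) (fun a b => mul_comm a b)
        (g := Abelianization.of ⟨_, hw⟩) fun l => ?_))
    show (l.comp Abelianization.of) ⟨_, hw⟩ = 1
    set lam : M →* ℂˣ := l.comp Abelianization.of
    have h1 := DFunLike.congr_fun (mem_stabL.1 (hlin lam hq)) ⟨m, hm⟩
    rw [cj_apply] at h1
    rw [show (⟨_, hw⟩ : M) = ⟨q * m * q⁻¹, hM.conj_mem m hm q⟩ * ⟨m, hm⟩⁻¹ from Subtype.ext rfl,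
      map_mul, map_inv, h1, mul_inv_cancel]
  set C : Subgroup G := M ⊓ Subgroup.centralizer ({x} : Set G)
  have hCN : ∀ w ∈ C, w ∈ N → w = 1 := fun w hw hwN =>
    hfpf w hwN (Subgroup.mem_centralizer_singleton_iff.1 hw.2).symm
  have hCc : ∀ u ∈ C, ∀ v ∈ C, u * v = v * u := fun u hu v hv =>
    commutatorElement_eq_one_iff_mul_comm.1 (hCN _
      (C.mul_mem (C.mul_mem (C.mul_mem hu hv) (C.inv_mem hu)) (C.inv_mem hv))
      (Subgroup.commutator_mem_commutator hu.1 hv.1))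
  have hCQ : ∀ c ∈ C, ∀ q ∈ Q, q * c = c * q := by
    intro c hc q hq
    have h1 : q * c * q⁻¹ ∈ Subgroup.centralizer ({x} : Set G) := by
      rw [Subgroup.mem_centralizer_singleton_iff]
      have h2 := Subgroup.mem_centralizer_singleton_iff.1 hc.2
      have h3 := hQ x hxQ q hq
      calc q * c * q⁻¹ * x = q * c * (q⁻¹ * x) := by group
        _ = q * (c * x) * q⁻¹ := by rw [← hQ x hxQ q⁻¹ (Q.inv_mem hq)]; group
        _ = q * x * (c * q⁻¹) := by rw [h2]; group
        _ = x * (q * c * q⁻¹) := by rw [← h3]; group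
    have h4 : q * c * q⁻¹ * c⁻¹ ∈ C :=
      C.mul_mem ⟨hM.conj_mem c hc.1 q, h1⟩ (C.inv_mem hc)
    have h5 := hCN _ h4 (hcong q hq c hc.1)
    rwa [mul_inv_eq_one, mul_inv_eq_iff_eq_mul] at h5
  let T : Subgroup G :=
    { carrier := {t | ∃ c ∈ C, ∃ q ∈ Q, t = c * q}
      one_mem' := ⟨1, C.one_mem, 1, Q.one_mem, (one_mul 1).symm⟩
      mul_mem' := by
        rintro _ _ ⟨c, hc, q, hq, rfl⟩ ⟨c', hc', q', hq', rfl⟩
        refine ⟨c * c', C.mul_mem hc hc', q * q', Q.mul_mem hq hq', ?_⟩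
        calc c * q * (c' * q') = c * (q * c') * q' := by group
          _ = _ := by rw [hCQ c' hc' q hq]; group
      inv_mem' := by
        rintro _ ⟨c, hc, q, hq, rfl⟩
        refine ⟨c⁻¹, C.inv_mem hc, q⁻¹, Q.inv_mem hq, ?_⟩
        rw [mul_inv_rev, hCQ c⁻¹ (C.inv_mem hc) q⁻¹ (Q.inv_mem hq)] }
  have hQT : ∀ q ∈ Q, q ∈ T := fun q hq => ⟨1, C.one_mem, q, hq, (one_mul q).symm⟩
  have hCT : ∀ c ∈ C, c ∈ T := fun c hc => ⟨c, hc, 1, Q.one_mem, (mul_one c).symm⟩
  have hcover : ∀ m ∈ M, m ∈ (N ⊔ T : Subgroup G) := by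
    intro m hm
    obtain ⟨c, hc, hcm⟩ := exists_fixed_rep h.hs hxs h.mcop N hNM (hcong x hxQ m hm)
    have hcM : c ∈ M := by
      rw [show c = c * m⁻¹ * m by group]
      exact M.mul_mem (hNM hcm) hm
    rw [show m = (c * m⁻¹)⁻¹ * c by group]
    exact Subgroup.mul_mem_sup (N.inv_mem hcm)
      (hCT c ⟨hcM, Subgroup.mem_centralizer_singleton_iff.2 hc.symm⟩)
  have hTc : ∀ u ∈ T, ∀ v ∈ T, u * v = v * u := by
    rintro _ ⟨c, hc, q, hq, rfl⟩ _ ⟨c', hc', q', hq', rfl⟩
    calc c * q * (c' * q') = c * (q * c') * q' := by group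
      _ = c * c' * (q * q') := by rw [hCQ c' hc' q hq]; group
      _ = c' * c * (q' * q) := by rw [hCc c hc c' hc', hQ q hq q' hq']
      _ = c' * (c * q') * q := by group
      _ = c' * q' * (c * q) := by rw [← hCQ c hc q' hq']; group
  have hanorm : ∀ t ∈ T, a⁻¹ * t * a ∈ T := by
    rintro _ ⟨c, hc, q, hq, rfl⟩
    refine ⟨a⁻¹ * c * a, ⟨?_, ?_⟩, a⁻¹ * q * a, h.anorm q hq, by group⟩
    · simpa using hM.conj_mem c hc.1 a⁻¹
    · show a⁻¹ * c * a ∈ Subgroup.centralizer ({x} : Set G)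
      rw [Subgroup.mem_centralizer_singleton_iff]
      -- `x` is `a⁻¹ y a` for some `y ∈ Q`
      let g : Q → Q := fun y => ⟨a⁻¹ * y * a, h.anorm y y.2⟩
      have hg : Function.Injective g := fun y y' e => Subtype.ext (by
        have := congrArg Subtype.val e
        simpa [g] using this)
      obtain ⟨y, hy⟩ := Finite.injective_iff_surjective.1 hg ⟨x, hxQ⟩
      have hy' : a⁻¹ * (y : G) * a = x := congrArg Subtype.val hy
      have h1 := hCQ c hc y y.2
      calc a⁻¹ * c * a * x = a⁻¹ * (c * y) * a := by rw [← hy']; group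
        _ = a⁻¹ * (y * c) * a := by rw [h1]
        _ = x * (a⁻¹ * c * a) := by rw [← hy']; group
  have hFr : Frame F D s l N T a :=
    { toSetting := h.toSetting
      att := h.att
      nle := hNM.trans h.mle
      tle := by
        rintro _ ⟨c, hc, q, hq, rfl⟩
        exact F.mul_mem (h.mle hc.1) (h.qle hq)
      sup := by
        refine le_antisymm (sup_le (hNM.trans h.mle) ?_) ?_
        · rintro _ ⟨c, hc, q, hq, rfl⟩
          exact F.mul_mem (h.mle hc.1) (h.qle hq)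
        · rw [← h.sup]
          exact sup_le hcover fun q hq => Subgroup.mem_sup_right (hQT q hq)
      disj := by
        rw [eq_bot_iff]
        rintro _ ⟨hn, c, hc, q, hq, rfl⟩
        have hqMQ : q ∈ M ⊓ Q := ⟨by
          rw [show q = c⁻¹ * (c * q) by group]
          exact M.mul_mem (M.inv_mem hc.1) (hNM hn), hq⟩
        rw [h.disj, Subgroup.mem_bot] at hqMQ
        subst hqMQ
        rw [mul_one] at hn ⊢
        exact hCN c hc hn
      tcomm := hTc
      anorm := hanorm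
      aord := h.aord
      aact := by
        obtain ⟨q, hq, hqa⟩ := h.aact
        exact ⟨q, hQT q hq, hqa⟩
      free := fun μ hμ hle => hμ (MonoidHom.ext fun n => by
        -- `k ↦ k⁻¹ x k x⁻¹` is onto
        let g : N → N := fun k =>
          k⁻¹ * ⟨x * k * x⁻¹, (inferInstance : N.Normal).conj_mem k k.2 x⟩
        have hg : Function.Injective g := fun k k' e => by
          have e1 : (k : G)⁻¹ * (x * k * x⁻¹) = (k' : G)⁻¹ * (x * k' * x⁻¹) := congrArg Subtype.val e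
          have h1 := hfpf ((k' : G) * (k : G)⁻¹) (N.mul_mem k'.2 (N.inv_mem k.2)) (by
            calc x * ((k' : G) * (k : G)⁻¹)
                = (k' : G) * ((k' : G)⁻¹ * (x * k' * x⁻¹)) * ((x * (k : G) * x⁻¹)⁻¹ * x) := by group
              _ = (k' : G) * ((k : G)⁻¹ * (x * k * x⁻¹)) * ((x * (k : G) * x⁻¹)⁻¹ * x) := by rw [e1]
              _ = (k' : G) * (k : G)⁻¹ * x := by group)
          exact Subtype.ext (mul_inv_eq_one.1 h1).symm
        obtain ⟨k, rfl⟩ := Finite.injective_iff_surjective.1 hg n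
        have h2 := DFunLike.congr_fun (mem_stabL.1 (hle (hQT x hxQ))) k
        rw [cj_apply] at h2
        show μ (k⁻¹ * _) = 1
        rw [map_mul, map_inv, h2, inv_mul_cancel]) }
  exact hFr.eq_of_nilpotent

end Cfsg.Agent.Block.NDDTwo.Ctx
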