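import Cfsg.Agent.Lib.Block.NDDTwo.Ctx
import Cfsg.Agent.Lib.Block.NormalDefect

/-!
# All degrees are equal: the easy cases
-/

set_option autoImplicit false
set_option linter.style.haveILetI false
set_option linter.unusedSectionVars false

open Cfsg
open scoped ComplexConjugate commutatorElement

namespace Cfsg.Agent.Block.NDDTwo.Ctx

open Cfsg.Agent Cfsg.Agent.Char Cfsg.Agent.Block.DegreeRel Cfsg.Agent.Char.TwoDeg

universe u

variable {G : Type u} [Group G] [Fintype G] {F M Q : Subgroup G} {D : Set ℕ} {s l : ℕ} {a : G}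
  [hM : M.Normal] [Fintype M]

theorem inertia_lin (lam : M →* ℂˣ) : inertia M ((linIrr lam : IrrCharacter M) : M → ℂ) = stabL lam :=
  (stabL_eq_inertia lam).symm

/-- An abelian complement to `Q` leaves only `s`-powers. -/
theorem eq_of_abelian (h : Ctx F D s l M Q a) (hMc : ∀ x ∈ M, ∀ y ∈ M, x * y = y * x) :
    ∀ d ∈ D, ∀ e ∈ D, d = e := by
  haveI := Fact.mk h.hs
  have hpow : ∀ d ∈ D, ∃ k, d = s ^ k := by
    intro d hd
    obtain ⟨χ, rfl, -⟩ := h.att d hd
    obtain ⟨n, ρ, hρ, hn, hn1, -⟩ := IsIrr.exists_rep χ.2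
    haveI := hρ
    have h1 := S0169.result ρ M hMc
    have hdeg : charDegree (χ : G → ℂ) = Module.finrank ℂ (Fin n → ℂ) := PIto.charDeg_eq (by
      rw [← hn, Representation.char_one])
    rw [← hdeg] at h1
    have hQ : M.relIndex F = Nat.card Q := by
      haveI := h.mnormal
      rw [← h.sup, sup_comm, Subgroup.relIndex_sup_right, ← Subgroup.inf_relIndex_right, h.disj,
        Subgroup.relIndex_bot_left]
    rw [← Subgroup.relIndex_mul_index h.mle, hQ] at h1
    obtain ⟨k, hk⟩ := IsPGroup.iff_card.1 h.qp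
    have h2 := (h.cop _ hd).dvd_of_dvd_mul_right h1
    rw [hk] at h2
    obtain ⟨j, -, hj⟩ := (Nat.dvd_prime_pow h.hs).1 h2
    exact ⟨j, hj⟩
  intro d hd e he
  obtain ⟨i, rfl⟩ := hpow d hd
  obtain ⟨j, rfl⟩ := hpow e he
  rcases le_total i j with hij | hij
  · exact h.anti _ hd _ he (pow_dvd_pow s hij)
  · exact (h.anti _ he _ hd (pow_dvd_pow s hij)).symm

/-- A nonabelian `M` forces a commutative `Q`. -/
theorem comm_of_nonabelian (h : Ctx F D s l M Q a) (θ : IrrCharacter M)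
    (hθ1 : charDegree (θ : M → ℂ) ≠ 1) : ∀ u ∈ Q, ∀ v ∈ Q, u * v = v * u := by
  classical
  haveI := Fact.mk h.hs
  haveI := h.normal
  haveI := Fintype.ofFinite F
  haveI := Fintype.ofFinite Q
  by_contra hnc
  obtain ⟨β, hβ⟩ : ∃ β : IrrCharacter Q, charDegree (β : Q → ℂ) ≠ 1 := by
    by_contra hno
    push Not at hno
    exact hnc fun u hu v hv =>
      congrArg Subtype.val ((comm_iff_linear Q).2 hno ⟨u, hu⟩ ⟨v, hv⟩)
  -- inflate to `F`
  set MF := M.subgroupOf F
  haveI : MF.Normal := Subgroup.Normal.subgroupOf hM F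
  let i : Q →* F ⧸ MF := (QuotientGroup.mk' MF).comp (Subgroup.inclusion h.qle)
  have hi : Function.Bijective i := by
    constructor
    · rw [injective_iff_map_eq_one]
      intro q hq
      have h1 : (q : G) ∈ M ⊓ Q := ⟨(QuotientGroup.eq_one_iff (N := MF) (Subgroup.inclusion h.qle q)).1 hq, q.2⟩
      rw [h.disj] at h1
      exact Subtype.ext (Subgroup.mem_bot.1 h1)
    · intro x
      induction x using QuotientGroup.induction_on with
      | _ w =>
        have hw : (w : G) ∈ ((Q ⊔ M : Subgroup G) : Set G) := by rw [sup_comm, h.sup]; exact w.2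
        rw [Subgroup.mul_normal] at hw
        obtain ⟨q, hq, m, hm, e⟩ := hw
        refine ⟨⟨q, hq⟩, QuotientGroup.eq.2 ?_⟩
        show q⁻¹ * (w : G) ∈ M
        rw [← e]
        simpa using hm
  let ψ : F → ℂ := fun x =>
    (β : Q → ℂ) ((MulEquiv.ofBijective i hi).symm (QuotientGroup.mk' MF x))
  have hψ : IsIrrCharacter F ψ := IsIrr.comp_surjective
    ((MulEquiv.ofBijective i hi).symm.toMonoidHom.comp (QuotientGroup.mk' MF))
    ((MulEquiv.ofBijective i hi).symm.surjective.comp (QuotientGroup.mk'_surjective MF)) β.2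
  have hψ1 : charDegree ψ = charDegree (β : Q → ℂ) := PIto.charDeg_eq (by
    show (β : Q → ℂ) _ = _
    rw [map_one, map_one, charDeg_spec' β])
  obtain ⟨χ, hχ⟩ := DegreeRel.exists_over (G := G) (⟨ψ, hψ⟩ : IrrCharacter F)
  have hd := h.toSetting.mem_of_over le_rfl (Or.inl (by
    show charDegree ψ ≠ 1
    rw [hψ1]; exact hβ)) hχ
  obtain ⟨e, he, hed⟩ := Ext.ratio_dvd_index' χ.2 hψ hχ
  have hdeg : charDegree (χ : G → ℂ) = e * charDegree (β : Q → ℂ) := PIto.charDeg_eq (by
    rw [he, Nat.cast_mul, ← hψ1]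
    exact congrArg _ (charDeg_spec' (⟨ψ, hψ⟩ : IrrCharacter F)))
  have he1 : e = 1 := Nat.eq_one_of_dvd_coprimes (h.cop _ hd) (hdeg ▸ dvd_mul_right _ _) hed
  rw [hdeg, he1, one_mul] at hd
  obtain ⟨c, hc⟩ := IsPGroup.iff_card.1 h.qp
  obtain ⟨i, -, hib⟩ := (Nat.dvd_prime_pow h.hs).1
    (hc ▸ IsIrr.degree_dvd_card β.2 (charDeg_spec' β) : charDegree (β : Q → ℂ) ∣ s ^ c)
  have hd1 := h.exact_deg θ (Or.inl hθ1)
  generalize hI : inertia M (θ : M → ℂ) = I at hd1
  haveI := Fintype.ofFinite I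
  set S : Subgroup Q := I.subgroupOf Q with hS
  haveI := Fintype.ofFinite S
  have hSidx : S.index = I.relIndex Q := rfl
  by_cases hSc : ∀ x ∈ S, ∀ y ∈ S, x * y = y * x
  · obtain ⟨n, ρ, hρ, hn, -, -⟩ := IsIrr.exists_rep β.2
    haveI := hρ
    have h1 := S0178.result ρ S hSc
    rw [← show charDegree (β : Q → ℂ) = Module.finrank ℂ (Fin n → ℂ) from PIto.charDeg_eq (by
      rw [← hn, Representation.char_one]), hSidx] at h1
    obtain ⟨j, hj⟩ := h.qp.index S
    rw [hSidx] at hj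
    rw [hib, hj] at h1
    have h2 := h.anti _ hd _ hd1 (hib ▸ hj ▸
      (pow_dvd_pow s ((Nat.pow_le_pow_iff_right h.hs.one_lt).1 h1)).trans (dvd_mul_left _ _))
    rw [hib] at h2
    refine hθ1 (Nat.eq_one_of_dvd_coprimes (h.mcop.pow_right i)
      (IsIrr.degree_dvd_card θ.2 (charDeg_spec' θ)) (h2 ▸ dvd_mul_right _ _))
  obtain ⟨γ, hγ⟩ : ∃ γ : IrrCharacter S, charDegree (γ : S → ℂ) ≠ 1 := by
    by_contra hno
    push Not at hno
    exact hSc fun x hx y hy =>
      congrArg Subtype.val ((comm_iff_linear S).2 hno ⟨x, hx⟩ ⟨y, hy⟩)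
  haveI : (F.subgroupOf I).Normal := Subgroup.Normal.subgroupOf inferInstance _
  haveI := Fintype.ofFinite (F.subgroupOf I)
  obtain ⟨f, ξ, hf, hξ, hres⟩ := h.ext_data θ hI.symm
  have hMI : M ≤ I := hI ▸ le_inertia M (IsIrr.classFun θ.2)
  set K : Subgroup (F.subgroupOf I) := (M.subgroupOf I).subgroupOf (F.subgroupOf I)
  haveI : (M.subgroupOf I).Normal := Subgroup.Normal.subgroupOf hM _
  haveI : K.Normal := Subgroup.Normal.subgroupOf inferInstance _
  haveI := Fintype.ofFinite K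
  let j : S →* F.subgroupOf I ⧸ K := (QuotientGroup.mk' K).comp
    (MonoidHom.mk' (fun x => (⟨⟨((x : Q) : G), x.2⟩, h.qle (x : Q).2⟩ : F.subgroupOf I))
      fun _ _ => rfl)
  have hj : Function.Bijective j := by
    constructor
    · rw [injective_iff_map_eq_one]
      intro x hx
      have h1 : ((x : Q) : G) ∈ M ⊓ Q := ⟨(QuotientGroup.eq_one_iff (N := K) (⟨⟨((x : Q) : G), x.2⟩, h.qle (x : Q).2⟩ : F.subgroupOf I)).1 hx,
        (x : Q).2⟩
      rw [h.disj] at h1
      exact Subtype.ext (Subtype.ext (Subgroup.mem_bot.1 h1))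
    · intro x
      induction x using QuotientGroup.induction_on with
      | _ w =>
        have hw : ((w : I) : G) ∈ ((Q ⊔ M : Subgroup G) : Set G) := by
          rw [sup_comm, h.sup]; exact w.2
        rw [Subgroup.mul_normal] at hw
        obtain ⟨q, hq, m, hm, e⟩ := hw
        have hqI : q ∈ I := by
          rw [show q = ((w : I) : G) * m⁻¹ by rw [← e]; group]
          exact I.mul_mem (w : I).2 (I.inv_mem (hMI hm))
        refine ⟨⟨⟨q, hq⟩, hqI⟩, QuotientGroup.eq.2 ?_⟩
        show q⁻¹ * ((w : I) : G) ∈ M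
        rw [← e]
        simpa using hm
  let η : F.subgroupOf I → ℂ := fun x =>
    (γ : S → ℂ) ((MulEquiv.ofBijective j hj).symm (QuotientGroup.mk' K x))
  have hη : IsIrrCharacter (F.subgroupOf I) η := IsIrr.comp_surjective
    ((MulEquiv.ofBijective j hj).symm.toMonoidHom.comp (QuotientGroup.mk' K))
    ((MulEquiv.ofBijective j hj).symm.surjective.comp (QuotientGroup.mk'_surjective K)) γ.2
  have hηK : ∀ x : K, η x = η 1 := fun x => by
    show (γ : S → ℂ) _ = (γ : S → ℂ) _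
    rw [map_one (QuotientGroup.mk' K), QuotientGroup.mk'_apply, (QuotientGroup.eq_one_iff _).2 x.2]
  have hξK : IsIrrCharacter K fun x : K => ξ x := by
    let e : M →* K := f.codRestrict K fun m => show ((f m : I) : G) ∈ M by rw [hf]; exact m.2
    have he : Function.Bijective e := ⟨fun u v huv => Subtype.ext (by
      rw [← hf u, ← hf v]
      exact congrArg (fun x : K => (((x : F.subgroupOf I) : I) : G)) huv), fun x =>
      ⟨⟨_, x.2⟩, Subtype.ext (Subtype.ext (Subtype.ext (hf _)))⟩⟩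
    have h1 := IsIrr.comp_mulEquiv (MulEquiv.ofBijective e he).symm θ.2
    convert h1 using 1
    funext x
    obtain ⟨m, rfl⟩ := he.2 x
    show ξ (f m) = _
    rw [hres]
    exact congrArg (θ : M → ℂ) ((MulEquiv.ofBijective e he).symm_apply_apply m).symm
  have hirr := irr_mul_of_res K hξ hη hξK hηK
  have hη1 : η 1 = (charDegree (γ : S → ℂ) : ℂ) := by
    show (γ : S → ℂ) _ = _
    rw [map_one, map_one, charDeg_spec' γ]
  have hres' : (fun n => (ξ * η) (f n)) = (charDegree (γ : S → ℂ) : ℂ) • (θ : M → ℂ) := by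
    funext n
    rw [Pi.mul_apply, hres, Pi.smul_apply, smul_eq_mul, mul_comm, ← hη1]
    congr 1
    exact hηK ⟨f n, show ((f n : I) : G) ∈ M by rw [hf]; exact n.2⟩
  have hne : classInner (fun n => (ξ * η) (f n)) (θ : M → ℂ) ≠ 0 := by
    rw [hres', classInner_smul_left, classInner_self_irr θ.2, mul_one]
    exact Nat.cast_ne_zero.2 (charDeg_pos γ).ne'
  obtain ⟨d, hd2, he2⟩ := (h.toSetting.above h.mle (Or.inl hθ1) hI.symm (F.subgroupOf I) f hf hirr
    hne (le_inertia _ (IsIrr.classFun hirr))).2 rfl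
  have hξ1 : ξ 1 = (charDegree (θ : M → ℂ) : ℂ) := by
    rw [← map_one f, hres, charDeg_spec' θ]
  rw [Pi.mul_apply, hξ1, hη1] at he2
  have hidx := (h.stab_index_pow θ (Or.inl hθ1)).1
  rw [hI] at hidx
  rw [← hidx] at hd1
  have he3 : d = charDegree (θ : M → ℂ) * I.index * charDegree (γ : S → ℂ) := by
    have : (d : ℂ) = ((charDegree (θ : M → ℂ) * I.index * charDegree (γ : S → ℂ) : ℕ) : ℂ) := by
      rw [he2]; push_cast; ring
    exact_mod_cast this
  have := h.anti _ hd1 _ hd2 (he3 ▸ dvd_mul_right _ _)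
  rw [he3] at this
  have hpos : 0 < charDegree (θ : M → ℂ) * I.index :=
    Nat.mul_pos (charDeg_pos θ) (Nat.pos_of_ne_zero Subgroup.index_ne_zero_of_finite)
  exact hγ (Nat.eq_of_mul_eq_mul_left hpos (by rw [mul_one]; exact this.symm))

/-- An element of `Q` moving a linear character of `M`. -/
theorem eq_of_moved (h : Ctx F D s l M Q a) (hQ : ∀ u ∈ Q, ∀ v ∈ Q, u * v = v * u)
    (lam : M →* ℂˣ) (hlam : ¬ Q ≤ stabL lam) : ∀ d ∈ D, ∀ e ∈ D, d = e := by
  classical
  haveI := Fact.mk h.hs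
  have hnot : ∀ ν : M →* ℂˣ, ¬ Q ≤ stabL ν →
      charDegree ((linIrr ν : IrrCharacter M) : M → ℂ) ≠ 1 ∨
        ¬ F ≤ inertia M ((linIrr ν : IrrCharacter M) : M → ℂ) := fun ν hν =>
    Or.inr fun hF => hν (by rw [← inertia_lin]; exact h.qle.trans hF)
  have hD : ∀ ν : M →* ℂˣ, ¬ Q ≤ stabL ν → (stabL ν).relIndex Q ∈ D := by
    intro ν hν
    have := h.exact_deg (linIrr ν) (hnot ν hν)
    rwa [inertia_lin, show charDegree ((linIrr ν : IrrCharacter M) : M → ℂ) = 1 from
      PIto.charDeg_eq (by simp [linIrr]), one_mul] at this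
  set S := Q ⊓ stabL lam with hS
  obtain ⟨i, hi⟩ := h.aord
  -- `C_Q(a) ≤ S`
  have hC : ∀ x ∈ Q, a * x = x * a → x ∈ stabL lam := by
    by_contra hno
    push Not at hno
    obtain ⟨x₀, hx₀, hxa₀, hxS₀⟩ := hno
    obtain ⟨k, hk⟩ := h.qp ⟨x₀, hx₀⟩
    have hex : ∃ m, x₀ ^ s ^ m ∈ stabL lam :=
      ⟨k, by rw [show x₀ ^ s ^ k = 1 from congrArg Subtype.val hk]; exact one_mem _⟩
    obtain ⟨m, hm⟩ : ∃ m, Nat.find hex = m + 1 := ⟨Nat.find hex - 1, by
      have : Nat.find hex ≠ 0 := fun h0 => hxS₀ (by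
        have := Nat.find_spec hex
        rwa [h0, pow_zero, pow_one] at this)
      omega⟩
    set x := x₀ ^ s ^ m
    have hxS : x ∉ stabL lam := Nat.find_min hex (by omega)
    have hxs : x ^ s ∈ stabL lam := by
      rw [← pow_mul, ← pow_succ, ← hm]
      exact Nat.find_spec hex
    have hx : x ∈ Q := pow_mem hx₀ _
    have hxa : a * x = x * a := (Commute.pow_right hxa₀ _).eq
    obtain ⟨q, hq, hqa⟩ := h.aact
    set δ := delta hQ h.anorm
    have hδne : δ.range ≠ ⊥ := fun hb => hqa ((delta_eq_one_iff hQ h.anorm ⟨q, hq⟩).1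
      (Subgroup.mem_bot.1 (hb ▸ ⟨_, rfl⟩)))
    have hcop : ∀ z ∈ δ.range, (orderOf z).Coprime l := fun z _ => by
      obtain ⟨j, hj⟩ := h.qp z
      exact (Nat.Coprime.pow_left j ((Nat.coprime_primes h.hs h.hl).2 h.hsl)).coprime_dvd_left
        (orderOf_dvd_of_pow_eq_one hj)
    haveI : Nontrivial δ.range := (Subgroup.nontrivial_iff_ne_bot _).2 hδne
    obtain ⟨r, hr⟩ := exists_prime_orderOf_dvd_card' (G := δ.range) s (by
      obtain ⟨j, hj⟩ := IsPGroup.iff_card.1 (h.qp.to_subgroup δ.range)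
      rw [hj]
      refine dvd_pow_self s fun h0 => ?_
      rw [h0, pow_zero] at hj
      exact (Finite.one_lt_card (α := δ.range)).ne' hj)
    have hrs : ((r : Q) : G) ^ s = 1 := by
      have := congrArg (fun z : δ.range => ((z : Q) : G)) (hr ▸ pow_orderOf_eq_one r)
      simpa using this
    have hfree : ∀ u : Q, u ∈ δ.range → a * u = u * a → u = 1 := fun u hu hua =>
      delta_range_fixed hQ h.anorm hi hu hua hcop
    have hstab : ∀ u ∈ Q, u ∈ stabL lam → a * u = u * a := fun u hu hu' =>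
      h.stab_comm hQ (linIrr lam) (hnot lam hlam) hu (by rw [inertia_lin]; exact hu')
    have hr1 : r ≠ 1 := fun h1 => h.hs.ne_one (by rw [← hr, h1, orderOf_one])
    refine no_two_independent hQ h.hs h.mcop.symm lam hlam ?_ hx (r : Q).2 hxs
      (by rw [hrs]; exact one_mem _) ?_ ?_
    · intro ν hsub hν w hw
      have h1 := h.anti _ (hD ν hν) _ (hD lam hlam)
      have hle : Q ⊓ stabL lam ≤ Q ⊓ stabL ν := le_inf inf_le_left hsub
      have h2 : (stabL ν).relIndex Q = (stabL lam).relIndex Q := by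
        refine h1 ?_
        rw [← Subgroup.inf_relIndex_left (H := Q) (K := stabL ν), ← Subgroup.inf_relIndex_left (H := Q) (K := stabL lam)]
        exact Subgroup.relIndex_dvd_of_le_left _ hle
      have h3 : Q ⊓ stabL ν ≤ Q ⊓ stabL lam := by
        rw [← Subgroup.relIndex_eq_one]
        have h4 := Subgroup.relIndex_mul_relIndex _ _ _ hle (inf_le_left : Q ⊓ stabL ν ≤ Q)
        rw [Subgroup.inf_relIndex_left, Subgroup.inf_relIndex_left, h2] at h4
        refine Nat.eq_of_mul_eq_mul_right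
          (Nat.pos_of_ne_zero Subgroup.index_ne_zero_of_finite : 0 < (stabL lam).relIndex Q) ?_
        rw [one_mul]
        exact h4
      exact (h3 hw).2
    · intro hrS
      refine hr1 (Subtype.ext ?_)
      exact hfree _ r.2 (hstab _ (r : Q).2 hrS)
    · intro j hxr
      have h1 : a * (x * ((r : Q) : G) ^ j) = x * ((r : Q) : G) ^ j * a :=
        hstab _ (Q.mul_mem hx (pow_mem (r : Q).2 j)) hxr
      have h2 : a * ((r : Q) : G) ^ j = ((r : Q) : G) ^ j * a := by
        refine mul_left_cancel (a := x) ?_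
        rw [← mul_assoc, ← hxa, mul_assoc, h1, mul_assoc]
      have h3 : (r : Q) ^ j = 1 := hfree _ (pow_mem r.2 j) (by simpa using h2)
      refine hxS ?_
      have h4 := congrArg (fun z : Q => (z : G)) h3
      simp only [Subgroup.coe_pow, Subgroup.coe_one] at h4
      rwa [h4, mul_one] at hxr
  have hall : ∀ d ∈ D, (stabL lam).relIndex Q = d := by
    intro d hd
    obtain ⟨θ, hθ, hdvd⟩ := h.exists_below hQ hd
    refine h.anti _ (hD lam hlam) _ hd (dvd_trans ?_ ((dvd_mul_left _ _).trans hdvd))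
    rw [← Subgroup.inf_relIndex_right (stabL lam), ← Subgroup.inf_relIndex_right (inertia M (θ : M → ℂ))]
    exact Subgroup.relIndex_dvd_of_le_left _ fun u hu =>
      ⟨hC u hu.2 (h.stab_comm hQ θ hθ hu.2 hu.1), hu.2⟩
  intro d hd e he
  rw [← hall d hd, hall e he]

end Cfsg.Agent.Block.NDDTwo.Ctx
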