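import Cfsg.Agent.Lib.Block.NDDTwo.Setting
import Cfsg.Agent.Lib.Block.NDDTwo.Action
import Cfsg.Agent.S0178
import Cfsg.Agent.S0169

/-!
# The `s`-complement and the operator
-/

set_option autoImplicit false
set_option linter.style.haveILetI false
set_option linter.unusedSectionVars false

open Cfsg
open scoped ComplexConjugate commutatorElement

namespace Cfsg.Agent.Block.NDDTwo

open Cfsg.Agent Cfsg.Agent.Char Cfsg.Agent.Block.DegreeRel

universe u

variable {G : Type u} [Group G] [Fintype G]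

/-- The data: `F = MQ` and an `l`-element acting nontrivially on `Q`. -/
structure Ctx (F : Subgroup G) (D : Set ℕ) (s l : ℕ) (M Q : Subgroup G) (a : G) : Prop
    extends Setting F D s l where
  att : ∀ d ∈ D, ∃ χ : IrrCharacter G, charDegree (χ : G → ℂ) = d ∧
    ¬ ∀ x ∈ ⁅F, F⁆, (χ : G → ℂ) x = (χ : G → ℂ) 1
  mnormal : M.Normal
  mle : M ≤ F
  qle : Q ≤ F
  sup : M ⊔ Q = F
  disj : M ⊓ Q = ⊥
  mcop : (Nat.card M).Coprime s
  qp : IsPGroup s Q
  anorm : ∀ q ∈ Q, a⁻¹ * q * a ∈ Q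
  aord : ∃ i : ℕ, a ^ l ^ i = 1
  aact : ∃ q ∈ Q, a * q ≠ q * a

/-- An extension to a subgroup of the inertia group of coprime relative index. -/
theorem exists_ext {N : Subgroup G} [hN : N.Normal] [Fintype N] (θ : IrrCharacter N)
    {I : Subgroup G} (hI : I = inertia N (θ : N → ℂ)) (J : Subgroup I) [Fintype J]
    (f : N →* J) (hf : ∀ n : N, (((f n : I)) : G) = n)
    (hcop : ((N.subgroupOf I).relIndex J).Coprime (Nat.card N)) :
    ∃ ξ : J → ℂ, IsIrrCharacter J ξ ∧ ∀ n, ξ (f n) = (θ : N → ℂ) n := by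
  classical
  set K : Subgroup J := (N.subgroupOf I).subgroupOf J with hK
  haveI : (N.subgroupOf I).Normal := Subgroup.Normal.subgroupOf hN _
  haveI : K.Normal := Subgroup.Normal.subgroupOf inferInstance _
  haveI : Fintype K := Fintype.ofFinite _
  have hmem : ∀ x : J, x ∈ K ↔ ((x : I) : G) ∈ N := fun x => Iff.rfl
  have hfK : ∀ n, f n ∈ K := fun n => (hmem _).2 (by rw [hf]; exact n.2)
  set e : N →* K := f.codRestrict K hfK
  have he : Function.Bijective e := ⟨fun a b hab => Subtype.ext (by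
    rw [← hf a, ← hf b]
    exact congrArg (fun x : K => (((x : J) : I) : G)) hab), fun x =>
    ⟨⟨_, (hmem _).1 x.2⟩, Subtype.ext (Subtype.ext (Subtype.ext (hf _)))⟩⟩
  let θK : K → ℂ := fun x => (θ : N → ℂ) ⟨((x : J) : I), (hmem _).1 x.2⟩
  have hθK : IsIrrCharacter K θK := by
    have h1 := IsIrr.comp_mulEquiv (MulEquiv.ofBijective e he).symm θ.2
    convert h1 using 1
    funext x
    obtain ⟨n, rfl⟩ := he.2 x
    refine congrArg (θ : N → ℂ) ?_
    exact (Subtype.ext (hf n)).trans ((MulEquiv.ofBijective e he).symm_apply_apply n).symm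
  have hd : θK 1 = (charDegree (θ : N → ℂ) : ℂ) := charDeg_spec' θ
  have hinv : ∀ (g : J) (n : K), θK ⟨g * n * g⁻¹,
      (inferInstance : K.Normal).conj_mem (n : J) n.2 g⟩ = θK n := fun g n => by
    have h := congrFun ((mem_inertia N).mp (show ((g : I) : G) ∈ inertia N (θ : N → ℂ) from
      hI ▸ (g : I).2)) ⟨((n : J) : I), (hmem _).1 n.2⟩
    simpa [conjN_apply, θK] using h
  have hcard : Nat.card K = Nat.card N :=
    Nat.card_congr (MulEquiv.ofBijective e he).symm.toEquiv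
  have hord : K.index.Coprime (orderOf (detChar θK) * charDegree (θ : N → ℂ)) := by
    obtain ⟨δ, hδ⟩ := isCharacter_detChar hθK
    have hK' : K.index.Coprime (Nat.card N) := hcop
    refine Nat.Coprime.mul_right ?_ (hK'.coprime_dvd_right
      (IsIrr.degree_dvd_card θ.2 (charDeg_spec' θ)))
    refine hK'.coprime_dvd_right (orderOf_dvd_of_pow_eq_one ?_)
    funext m
    rw [Pi.pow_apply, hδ, Pi.one_apply, ← Units.val_pow_eq_pow_val, ← map_pow, ← hcard,
      pow_card_eq_one', map_one, Units.val_one]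
  obtain ⟨ξ, hξ, hres⟩ := Ext.exists_extension_of_witness hθK hinv hd
    fun p hp => Ext.witness_of_coprime hθK hord hp
  refine ⟨ξ, hξ, fun n => ?_⟩
  exact (hres ⟨f n, hfK n⟩).trans (congrArg (θ : N → ℂ) (Subtype.ext (hf n)))

namespace Ctx

variable {F M Q : Subgroup G} {D : Set ℕ} {s l : ℕ} {a : G}

theorem relIndex_inf (h : Ctx F D s l M Q a) {I : Subgroup G} (hMI : M ≤ I) :
    M.relIndex (F ⊓ I) = Nat.card (Q ⊓ I : Subgroup G) := by
  haveI := h.mnormal
  have hX : M ⊔ (Q ⊓ I) = F ⊓ I := by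
    refine le_antisymm (le_inf (sup_le h.mle (inf_le_left.trans h.qle)) (sup_le hMI inf_le_right))
      fun x hx => ?_
    have hxF : x ∈ ((M ⊔ Q : Subgroup G) : Set G) := by rw [h.sup]; exact hx.1
    rw [Subgroup.normal_mul] at hxF
    obtain ⟨m, hm, q, hq, rfl⟩ := hxF
    exact Subgroup.mul_mem_sup hm ⟨hq, by
      simpa using I.mul_mem (I.inv_mem (hMI hm)) hx.2⟩
  rw [← hX, sup_comm, Subgroup.relIndex_sup_right, ← Subgroup.inf_relIndex_right,
    show M ⊓ (Q ⊓ I) = ⊥ by rw [← inf_assoc, h.disj, bot_inf_eq], Subgroup.relIndex_bot_left]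

theorem relIndex_stab (h : Ctx F D s l M Q a) {I : Subgroup G} (hMI : M ≤ I) :
    I.relIndex F = I.relIndex Q := by
  haveI := h.mnormal
  have hA := h.relIndex_inf hMI
  have hB : M.relIndex F = Nat.card Q := by
    rw [← h.sup, sup_comm, Subgroup.relIndex_sup_right, ← Subgroup.inf_relIndex_right, h.disj,
      Subgroup.relIndex_bot_left]
  have h1 : M.relIndex (F ⊓ I) * (F ⊓ I).relIndex F = M.relIndex F :=
    Subgroup.relIndex_mul_relIndex _ _ _ (le_inf h.mle hMI) inf_le_left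
  have h2 : (⊥ : Subgroup G).relIndex (Q ⊓ I) * (Q ⊓ I).relIndex Q =
      (⊥ : Subgroup G).relIndex Q :=
    Subgroup.relIndex_mul_relIndex _ _ _ bot_le inf_le_left
  rw [hA, hB] at h1
  rw [Subgroup.relIndex_bot_left, Subgroup.relIndex_bot_left, inf_comm Q I,
    Subgroup.inf_relIndex_right, inf_comm I Q] at h2
  rw [inf_comm F I, Subgroup.inf_relIndex_right] at h1
  exact Nat.eq_of_mul_eq_mul_left Nat.card_pos (h1.trans h2.symm)

theorem commutator_le (h : Ctx F D s l M Q a) (hQ : ∀ u ∈ Q, ∀ v ∈ Q, u * v = v * u) :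
    ⁅F, F⁆ ≤ M := by
  haveI := h.mnormal
  rw [Subgroup.commutator_le]
  intro u hu v hv
  have key : ∀ w ∈ F, ∃ q ∈ Q, QuotientGroup.mk' M w = QuotientGroup.mk' M q := by
    intro w hw
    have hw' : w ∈ ((M ⊔ Q : Subgroup G) : Set G) := by rw [h.sup]; exact hw
    rw [Subgroup.normal_mul] at hw'
    obtain ⟨m, hm, q, hq, rfl⟩ := hw'
    exact ⟨q, hq, by simp [(QuotientGroup.eq_one_iff m).2 hm]⟩
  obtain ⟨p, hp, hup⟩ := key u hu
  obtain ⟨q, hq, hvq⟩ := key v hv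
  rw [← QuotientGroup.eq_one_iff, ← QuotientGroup.mk'_apply, map_commutatorElement, hup, hvq,
    ← map_commutatorElement, commutatorElement_eq_one_iff_mul_comm.2 (hQ p hp q hq), map_one]

variable [hM : M.Normal] [Fintype M]

theorem stab_index_pow (h : Ctx F D s l M Q a) (θ : IrrCharacter M)
    (hθ : charDegree (θ : M → ℂ) ≠ 1 ∨ ¬ F ≤ inertia M (θ : M → ℂ)) :
    (inertia M (θ : M → ℂ)).index = (inertia M (θ : M → ℂ)).relIndex Q ∧
      ∃ k, (inertia M (θ : M → ℂ)).relIndex Q = s ^ k := by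
  haveI := Fact.mk h.hs
  obtain ⟨-, h1, -, -⟩ := h.toSetting.orbit_data h.mle hθ
  exact ⟨by rw [← h1, h.relIndex_stab (le_inertia M (IsIrr.classFun θ.2))], h.qp.index _⟩

/-- The part of the inertia group in `F` as a subgroup. -/
theorem ext_data (h : Ctx F D s l M Q a) (θ : IrrCharacter M)
    {I : Subgroup G} (hI : I = inertia M (θ : M → ℂ)) [Fintype (F.subgroupOf I)] :
    ∃ (f : M →* F.subgroupOf I) (ξ : F.subgroupOf I → ℂ), (∀ n : M, (((f n : I)) : G) = n) ∧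
      IsIrrCharacter (F.subgroupOf I) ξ ∧ ∀ n, ξ (f n) = (θ : M → ℂ) n := by
  haveI := Fact.mk h.hs
  have hMI : M ≤ I := hI ▸ le_inertia M (IsIrr.classFun θ.2)
  let f : M →* F.subgroupOf I := (Subgroup.inclusion hMI).codRestrict _ fun n => h.mle n.2
  have hf : ∀ n : M, (((f n : I)) : G) = n := fun n => rfl
  have hcop : ((M.subgroupOf I).relIndex (F.subgroupOf I)).Coprime (Nat.card M) := by
    rw [← Subgroup.inf_subgroupOf_right F I, Subgroup.relIndex_subgroupOf inf_le_right,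
      h.relIndex_inf hMI]
    obtain ⟨k, hk⟩ := IsPGroup.iff_card.1 (h.qp.to_le (inf_le_left : Q ⊓ I ≤ Q))
    rw [hk]
    exact (h.mcop.symm).pow_left k
  obtain ⟨ξ, hξ, hres⟩ := exists_ext θ hI _ f hf hcop
  exact ⟨f, ξ, hf, hξ, hres⟩

/-- Stabilisers in `Q` commute with the operator when `Q` is commutative. -/
theorem stab_comm (h : Ctx F D s l M Q a) (hQ : ∀ u ∈ Q, ∀ v ∈ Q, u * v = v * u)
    (θ : IrrCharacter M) (hθ : charDegree (θ : M → ℂ) ≠ 1 ∨ ¬ F ≤ inertia M (θ : M → ℂ))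
    {u : G} (huQ : u ∈ Q) (hu : u ∈ inertia M (θ : M → ℂ)) : a * u = u * a := by
  classical
  haveI := h.normal
  obtain ⟨htop, -, -, -⟩ := h.toSetting.orbit_data h.mle hθ
  generalize hI : inertia M (θ : M → ℂ) = I at htop hu
  haveI := Fintype.ofFinite I
  haveI : (F.subgroupOf I).Normal := Subgroup.Normal.subgroupOf inferInstance _
  haveI := Fintype.ofFinite (F.subgroupOf I)
  obtain ⟨f, ξ, hf, hξ, hres⟩ := h.ext_data θ hI.symm
  have hMI : M ≤ I := hI ▸ le_inertia M (IsIrr.classFun θ.2)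
  obtain ⟨q, hq, hqI⟩ : ∃ q ∈ Q, a⁻¹ * q ∈ I := by
    have ha : a ∈ ((F ⊔ I : Subgroup G) : Set G) := by rw [htop]; trivial
    rw [Subgroup.normal_mul] at ha
    obtain ⟨w, hw, i, hi, rfl⟩ := ha
    have hw' : w ∈ ((Q ⊔ M : Subgroup G) : Set G) := by rw [sup_comm, h.sup]; exact hw
    rw [Subgroup.mul_normal] at hw'
    obtain ⟨q, hq, m, hm, rfl⟩ := hw'
    refine ⟨q, hq, ?_⟩
    rw [show (q * m * i)⁻¹ * q = i⁻¹ * m⁻¹ by group]
    exact I.mul_mem (I.inv_mem hi) (I.inv_mem (hMI hm))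
  have h1 := h.toSetting.comm_mem h.mle hθ hI.symm (F.subgroupOf I) f hf hξ hres
    (fun ζ hζ _ => le_inertia _ (IsIrr.classFun hζ))
    (fun x y => h.commutator_le hQ (by
      have h5 := Subgroup.commutator_mem_commutator (show ((x : I) : G) ∈ F from x.2)
        (show ((y : I) : G) ∈ F from y.2)
      convert h5 using 1
      simp [commutatorElement_def]))
    ⟨_, hqI⟩ ⟨⟨u, hu⟩, h.qle huQ⟩
  have e : a⁻¹ * q * u * (a⁻¹ * q)⁻¹ * u⁻¹ = a⁻¹ * u * a * u⁻¹ := by
    rw [mul_assoc a⁻¹ q u, hQ q hq u huQ]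
    group
  have h2 : a⁻¹ * u * a * u⁻¹ ∈ M ⊓ Q :=
    ⟨e ▸ h1, Q.mul_mem (h.anorm u huQ) (Q.inv_mem huQ)⟩
  rw [h.disj, Subgroup.mem_bot, mul_inv_eq_one, mul_assoc, inv_mul_eq_iff_eq_mul] at h2
  exact h2.symm

/-- The exact degree above an extendable character. -/
theorem exact_deg (h : Ctx F D s l M Q a) (θ : IrrCharacter M)
    (hθ : charDegree (θ : M → ℂ) ≠ 1 ∨ ¬ F ≤ inertia M (θ : M → ℂ)) :
    charDegree (θ : M → ℂ) * (inertia M (θ : M → ℂ)).relIndex Q ∈ D := by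
  classical
  haveI := h.normal
  obtain ⟨hidx, -⟩ := h.stab_index_pow θ hθ
  rw [← hidx]
  generalize hI : inertia M (θ : M → ℂ) = I
  haveI := Fintype.ofFinite I
  haveI : (F.subgroupOf I).Normal := Subgroup.Normal.subgroupOf inferInstance _
  haveI := Fintype.ofFinite (F.subgroupOf I)
  obtain ⟨f, ξ, hf, hξ, hres⟩ := h.ext_data θ hI.symm
  have h0 : classInner (fun n => ξ (f n)) (θ : M → ℂ) ≠ 0 := by
    rw [show (fun n => ξ (f n)) = (θ : M → ℂ) from funext hres, classInner_self_irr θ.2]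
    exact one_ne_zero
  obtain ⟨d, hd, he⟩ := (h.toSetting.above h.mle hθ hI.symm (F.subgroupOf I) f hf hξ h0
    (le_inertia _ (IsIrr.classFun hξ))).2 rfl
  have h1 : ξ 1 = (charDegree (θ : M → ℂ) : ℂ) := by
    rw [← map_one f, hres, charDeg_spec' θ]
  rw [h1] at he
  have : d = charDegree (θ : M → ℂ) * I.index := by exact_mod_cast he
  exact this ▸ hd

/-- Every degree sits over a character which is not an invariant linear one. -/
theorem exists_below (h : Ctx F D s l M Q a) (hQ : ∀ u ∈ Q, ∀ v ∈ Q, u * v = v * u) {d : ℕ}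
    (hd : d ∈ D) : ∃ θ : IrrCharacter M,
      (charDegree (θ : M → ℂ) ≠ 1 ∨ ¬ F ≤ inertia M (θ : M → ℂ)) ∧
        charDegree (θ : M → ℂ) * (inertia M (θ : M → ℂ)).relIndex Q ∣ d := by
  classical
  haveI := h.normal
  obtain ⟨χ, hχd, hχ⟩ := h.att d hd
  by_contra hno
  push Not at hno
  have hall : ∀ φ : IrrCharacter M, classInner (fun n : M => (χ : G → ℂ) n) (φ : M → ℂ) ≠ 0 →
      charDegree (φ : M → ℂ) = 1 ∧ F ≤ inertia M (φ : M → ℂ) := by
    intro φ hφ
    by_contra hc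
    rw [not_and_or] at hc
    refine hno φ hc ?_
    obtain ⟨e, he⟩ := over_deg (show Over χ φ from hφ)
    rw [← (h.stab_index_pow φ hc).1, ← hχd, he, mul_comm (charDegree (φ : M → ℂ))]
    exact dvd_mul_left _ _
  -- such characters kill `⁅M, F⁆`
  have hker : ∀ x, x ∈ ⁅M, F⁆ → (χ : G → ℂ) x = (χ : G → ℂ) 1 := by
    intro x hx
    by_contra hne
    have hxM : x ∈ M := Subgroup.commutator_le_left M F hx
    obtain ⟨φ, hφ, hφx⟩ := exists_nonprincipal_constituent
      (χ := fun n : M => (χ : G → ℂ) n) (IsChar.res (irr_isChar χ) M) (g := ⟨x, hxM⟩)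
      (by simpa using hne)
    obtain ⟨h1, h2⟩ := hall φ hφ
    obtain ⟨μ, hμ⟩ := linearHom_of_isCharacter (irr_isChar φ) (by
      rw [charDeg_spec' φ, h1, Nat.cast_one])
    refine hφx ?_
    have hle : ⁅M, F⁆ ≤ μ.ker.map M.subtype := by
      rw [Subgroup.commutator_le]
      intro m hm f hf
      have h3 := congrFun ((mem_inertia M).1 (h2 hf)) (⟨m, hm⟩⁻¹ : M)
      rw [conjN_apply, hμ] at h3
      refine ⟨⟨⁅m, f⁆, by
        rw [commutatorElement_def, mul_assoc, mul_assoc, ← mul_assoc f]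
        exact M.mul_mem hm (hM.conj_mem _ (M.inv_mem hm) f)⟩, MonoidHom.mem_ker.2 ?_, rfl⟩
      have h4 := Units.ext h3
      have e : (⟨⁅m, f⁆, by
        rw [commutatorElement_def, mul_assoc, mul_assoc, ← mul_assoc f]
        exact M.mul_mem hm (hM.conj_mem _ (M.inv_mem hm) f)⟩ : M) = ⟨m, hm⟩ *
          ⟨f * ((⟨m, hm⟩⁻¹ : M) : G) * f⁻¹, hM.conj_mem _ (⟨m, hm⟩⁻¹ : M).2 f⟩ :=
        Subtype.ext (by simp [commutatorElement_def, mul_assoc])
      rw [e, map_mul, h4, map_inv, mul_inv_cancel]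
    obtain ⟨y, hy, hyx⟩ := hle hx
    obtain rfl : y = ⟨x, hxM⟩ := Subtype.ext hyx
    simp [hμ, MonoidHom.mem_ker.1 hy]
  refine hχ fun x hx => hker x ?_
  haveI : (⁅M, F⁆).Normal := inferInstance
  refine (Subgroup.commutator_le.2 fun u hu v hv => ?_ : ⁅F, F⁆ ≤ ⁅M, F⁆) hx
  set π := QuotientGroup.mk' ⁅M, F⁆
  have hcen : ∀ m ∈ M, ∀ w ∈ F, Commute (π m) (π w) := fun m hm w hw => by
    refine commutatorElement_eq_one_iff_commute.1 ?_
    rw [← map_commutatorElement]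
    exact (QuotientGroup.eq_one_iff _).2 (Subgroup.commutator_mem_commutator hm hw)
  have key : ∀ w ∈ F, ∃ m ∈ M, ∃ q ∈ Q, w = m * q := by
    intro w hw
    have hw' : w ∈ ((M ⊔ Q : Subgroup G) : Set G) := by rw [h.sup]; exact hw
    rw [Subgroup.normal_mul] at hw'
    obtain ⟨m, hm, q, hq, rfl⟩ := hw'
    exact ⟨m, hm, q, hq, rfl⟩
  obtain ⟨m₁, hm₁, q₁, hq₁, rfl⟩ := key u hu
  obtain ⟨m₂, hm₂, q₂, hq₂, rfl⟩ := key v hv
  rw [← QuotientGroup.eq_one_iff, ← QuotientGroup.mk'_apply, map_commutatorElement]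
  refine commutatorElement_eq_one_iff_commute.2 ?_
  rw [map_mul, map_mul]
  exact ((hcen _ hm₁ _ (h.mle hm₂)).mul_right (hcen _ hm₁ _ (h.qle hq₂))).mul_left
    ((hcen _ hm₂ _ (h.qle hq₁)).symm.mul_right ((Commute.map (hQ _ hq₁ _ hq₂) π)))

end Ctx

end Cfsg.Agent.Block.NDDTwo
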