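import Cfsg.Agent.Lib.Block.NDDTwo.Setting
import Cfsg.Agent.Lib.Block.NDDTwo.Action

/-!
# A split normal subgroup with commutative complement

`F = NT` with `T` commutative, normalised by `a`, fixing no nontrivial linear character of `N`.
-/

set_option autoImplicit false
set_option linter.style.haveILetI false
set_option linter.unusedSectionVars false

open Cfsg
open scoped ComplexConjugate commutatorElement

namespace Cfsg.Agent.Block.NDDTwo

open Cfsg.Agent Cfsg.Agent.Char Cfsg.Agent.Block.DegreeRel Cfsg.Agent.Char.TwoDeg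

universe u

variable {G : Type u} [Group G] [Fintype G]

/-- The data. -/
structure Frame (F : Subgroup G) (D : Set ℕ) (s l : ℕ) (N T : Subgroup G) [N.Normal] (a : G) :
    Prop extends Setting F D s l where
  att : ∀ d ∈ D, ∃ χ : IrrCharacter G, charDegree (χ : G → ℂ) = d ∧
    ¬ ∀ x ∈ ⁅F, F⁆, (χ : G → ℂ) x = (χ : G → ℂ) 1
  nle : N ≤ F
  tle : T ≤ F
  sup : N ⊔ T = F
  disj : N ⊓ T = ⊥
  tcomm : ∀ u ∈ T, ∀ v ∈ T, u * v = v * u
  anorm : ∀ t ∈ T, a⁻¹ * t * a ∈ T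
  aord : ∃ i : ℕ, a ^ l ^ i = 1
  aact : ∃ t ∈ T, a * t ≠ t * a
  free : ∀ μ : N →* ℂˣ, μ ≠ 1 → ¬ T ≤ stabL μ

/-- Membership is decided by the primary parts. -/
theorem mem_of_prime_parts {A : Type*} [Group A] [Finite A] (S : Subgroup A) (t : A)
    (h : ∀ p : ℕ, p.Prime → ∀ b : A, (∃ k, orderOf b = p ^ k) → b ∈ Subgroup.zpowers t → b ∈ S) :
    t ∈ S := by
  classical
  have hgcd : ∀ m n : ℕ, t ^ m ∈ S → t ^ n ∈ S → t ^ Nat.gcd m n ∈ S := fun m n hm hn => by
    rw [← zpow_natCast, Nat.gcd_eq_gcd_ab, zpow_add, zpow_mul, zpow_mul, zpow_natCast, zpow_natCast]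
    exact S.mul_mem (zpow_mem hm _) (zpow_mem hn _)
  have hex : ∃ m, 0 < m ∧ t ^ m ∈ S :=
    ⟨orderOf t, orderOf_pos t, by rw [pow_orderOf_eq_one]; exact S.one_mem⟩
  obtain ⟨hd0, hd⟩ := Nat.find_spec hex
  set d := Nat.find hex with hdef
  have hdvd : ∀ m, t ^ m ∈ S → d ∣ m := fun m hm => by
    have h1 : d ≤ Nat.gcd d m :=
      Nat.find_min' hex ⟨Nat.gcd_pos_of_pos_left _ hd0, hgcd _ _ hd hm⟩
    have h2 := Nat.gcd_le_left m hd0
    exact Nat.gcd_eq_left_iff_dvd.1 (le_antisymm h2 h1)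
  have hde : d ∣ orderOf t := hdvd _ (by rw [pow_orderOf_eq_one]; exact S.one_mem)
  by_contra hne
  have hd1 : d ≠ 1 := fun h1 => hne (by rw [h1, pow_one] at hd; exact hd)
  obtain ⟨p, hp, hpd⟩ := Nat.exists_prime_and_dvd hd1
  refine Nat.not_dvd_ordCompl hp (orderOf_pos t).ne' (hpd.trans (hdvd _ (h p hp _ ?_
    (pow_mem (Subgroup.mem_zpowers t) _))))
  obtain ⟨k, -, hk⟩ := (Nat.dvd_prime_pow hp).1 (orderOf_dvd_of_pow_eq_one
    (x := t ^ (ordCompl[p] (orderOf t))) (n := ordProj[p] (orderOf t)) (by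
      rw [← pow_mul, mul_comm, Nat.ordProj_mul_ordCompl_eq_self, pow_orderOf_eq_one]))
  exact ⟨k, hk⟩

namespace Frame

variable {F N T : Subgroup G} [hN : N.Normal] [Fintype N] {D : Set ℕ} {s l : ℕ} {a : G}

theorem exists_t (h : Frame F D s l N T a) {w : G} (hw : w ∈ F) :
    ∃ t ∈ T, w * t⁻¹ ∈ N := by
  have hw' : w ∈ ((N ⊔ T : Subgroup G) : Set G) := by rw [h.sup]; exact hw
  rw [Subgroup.normal_mul] at hw'
  obtain ⟨n, hn, t, ht, rfl⟩ := hw'
  exact ⟨t, ht, by simpa using hn⟩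

theorem t_unique (h : Frame F D s l N T a) {t t' : G} (ht : t ∈ T) (ht' : t' ∈ T)
    (hn : t * t'⁻¹ ∈ N) : t = t' := by
  have h1 : t * t'⁻¹ ∈ N ⊓ T := ⟨hn, T.mul_mem ht (T.inv_mem ht')⟩
  rw [h.disj, Subgroup.mem_bot, mul_inv_eq_one] at h1
  exact h1

theorem commutator_le (h : Frame F D s l N T a) : ⁅F, F⁆ ≤ N := by
  rw [Subgroup.commutator_le]
  intro u hu v hv
  obtain ⟨p, hp, hup⟩ := h.exists_t hu
  obtain ⟨q, hq, hvq⟩ := h.exists_t hv
  rw [← QuotientGroup.eq_one_iff, ← QuotientGroup.mk'_apply] at hup hvq ⊢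
  rw [map_mul, map_inv, mul_inv_eq_one] at hup hvq
  rw [map_commutatorElement, hup, hvq, ← map_commutatorElement,
    commutatorElement_eq_one_iff_mul_comm.2 (h.tcomm p hp q hq), map_one]

theorem relIndex_eq (h : Frame F D s l N T a) {I : Subgroup G} (hNI : N ≤ I) :
    I.relIndex F = I.relIndex T := by
  let i : T ⧸ I.subgroupOf T → F ⧸ I.subgroupOf F :=
    Quotient.map' (Subgroup.inclusion h.tle) fun u v huv => by
      rw [QuotientGroup.leftRel_apply] at huv ⊢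
      exact huv
  refine (Nat.card_eq_of_bijective i ⟨fun x y hxy => ?_, fun x => ?_⟩).symm
  · induction x using QuotientGroup.induction_on with | _ u =>
    induction y using QuotientGroup.induction_on with | _ v =>
    have h1 := QuotientGroup.eq.1 hxy
    exact QuotientGroup.eq.2 h1
  · induction x using QuotientGroup.induction_on with | _ w =>
    obtain ⟨t, ht, htn⟩ := h.exists_t w.2
    refine ⟨((⟨t, ht⟩ : T) : T ⧸ I.subgroupOf T), QuotientGroup.eq.2 ?_⟩
    show t⁻¹ * (w : G) ∈ I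
    rw [show t⁻¹ * (w : G) = t⁻¹ * ((w : G) * t⁻¹) * t⁻¹⁻¹ by group]
    exact hNI (hN.conj_mem _ htn _)

theorem mem_inf (h : Frame F D s l N T a) {I : Subgroup G} (hNI : N ≤ I) {w : G}
    (hw : w ∈ F) (hwI : w ∈ I) : ∃ t ∈ T, t ∈ I ∧ w * t⁻¹ ∈ N := by
  obtain ⟨t, ht, htn⟩ := h.exists_t hw
  refine ⟨t, ht, ?_, htn⟩
  rw [show t = (w * t⁻¹)⁻¹ * w by group]
  exact I.mul_mem (I.inv_mem (hNI htn)) hwI

/-- An element of `T` moving `a` into the inertia group. -/
theorem exists_shift (h : Frame F D s l N T a) {I : Subgroup G} (hNI : N ≤ I)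
    (htop : F ⊔ I = ⊤) : ∃ t ∈ T, a⁻¹ * t ∈ I := by
  haveI := h.normal
  have ha : a ∈ ((F ⊔ I : Subgroup G) : Set G) := by rw [htop]; trivial
  rw [Subgroup.normal_mul] at ha
  obtain ⟨w, hw, i, hi, e⟩ := ha
  obtain ⟨t, ht, htn⟩ := h.exists_t hw
  refine ⟨t, ht, ?_⟩
  rw [← e, show (w * i)⁻¹ * t = i⁻¹ * (t⁻¹ * (w * t⁻¹) * t⁻¹⁻¹)⁻¹ by group]
  exact I.mul_mem (I.inv_mem hi) (I.inv_mem (hNI (hN.conj_mem _ htn _)))

/-- Inside the inertia group, commuting with `a` modulo `N` is commuting with `a`. -/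
theorem comm_of_mem (h : Frame F D s l N T a) {t u : G} (ht : t ∈ T) (hu : u ∈ T)
    (hn : a⁻¹ * t * u * (a⁻¹ * t)⁻¹ * u⁻¹ ∈ N) : a * u = u * a := by
  have e : a⁻¹ * t * u * (a⁻¹ * t)⁻¹ * u⁻¹ = a⁻¹ * u * a * u⁻¹ := by
    rw [mul_assoc a⁻¹ t u, h.tcomm t ht u hu]
    group
  have h1 : a⁻¹ * u * a * u⁻¹ ∈ N ⊓ T :=
    ⟨e ▸ hn, T.mul_mem (h.anorm u hu) (T.inv_mem hu)⟩
  rw [h.disj, Subgroup.mem_bot, mul_inv_eq_one, mul_assoc, inv_mul_eq_iff_eq_mul] at h1
  exact h1.symm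

theorem lin_cond (h : Frame F D s l N T a) {μ : N →* ℂˣ} (hμ : μ ≠ 1) :
    charDegree ((linIrr μ : IrrCharacter N) : N → ℂ) ≠ 1 ∨
      ¬ F ≤ inertia N ((linIrr μ : IrrCharacter N) : N → ℂ) :=
  Or.inr fun hF => h.free μ hμ (by
    rw [stabL_eq_inertia]
    exact h.tle.trans hF)

/-- A linear character extends to its stabiliser in `F`. -/
theorem lin_ext (h : Frame F D s l N T a) (μ : N →* ℂˣ) {I : Subgroup G}
    (hI : I = inertia N ((linIrr μ : IrrCharacter N) : N → ℂ)) [Fintype (F.subgroupOf I)] :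
    ∃ (f : N →* F.subgroupOf I) (ξ : F.subgroupOf I → ℂ), (∀ n : N, (((f n : I)) : G) = n) ∧
      IsIrrCharacter (F.subgroupOf I) ξ ∧
      ∀ n, ξ (f n) = ((linIrr μ : IrrCharacter N) : N → ℂ) n := by
  classical
  have hNI : N ≤ I := hI ▸ le_inertia N (IsIrr.classFun (linIrr μ).2)
  have hIs : I = stabL μ := hI.trans (stabL_eq_inertia μ).symm
  choose t htT htn using fun w : F.subgroupOf I => h.exists_t (w := ((w : I) : G)) w.2
  have htI : ∀ w, t w ∈ I := fun w => by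
    rw [show t w = (((w : I) : G) * (t w)⁻¹)⁻¹ * ((w : I) : G) by group]
    exact I.mul_mem (I.inv_mem (hNI (htn w))) (w : I).2
  let c : F.subgroupOf I → N := fun w => ⟨_, htn w⟩
  have hc : ∀ w v : F.subgroupOf I, μ (c (w * v)) = μ (c w) * μ (c v) := by
    intro w v
    have e1 : t (w * v) = t w * t v := by
      refine h.t_unique (htT _) (T.mul_mem (htT w) (htT v)) ?_
      rw [show t (w * v) * (t w * t v)⁻¹ = (((w * v : F.subgroupOf I) : I) * (t (w * v))⁻¹ : G)⁻¹ *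
        ((((w : I) : G) * (t w)⁻¹) * (t w * (((v : I) : G) * (t v)⁻¹) * (t w)⁻¹)) by
        simp only [Subgroup.coe_mul]; group]
      exact N.mul_mem (N.inv_mem (htn _)) (N.mul_mem (htn w) (hN.conj_mem _ (htn v) _))
    have e2 : c (w * v) = c w * ⟨t w * (c v : G) * (t w)⁻¹, hN.conj_mem _ (c v).2 _⟩ := by
      refine Subtype.ext ?_
      show ((w * v : F.subgroupOf I) : I) * (t (w * v))⁻¹ =
        ((w : I) : G) * (t w)⁻¹ * (t w * (((v : I) : G) * (t v)⁻¹) * (t w)⁻¹)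
      rw [e1]
      simp only [Subgroup.coe_mul]
      group
    rw [e2, map_mul, ← cj_apply, mem_stabL.1 (hIs ▸ htI w : t w ∈ stabL μ)]
  let ζ : F.subgroupOf I →* ℂˣ := MonoidHom.mk' (fun w => μ (c w)) hc
  refine ⟨(Subgroup.inclusion hNI).codRestrict _ fun n => h.nle n.2, _, fun n => rfl,
    isIrr_linear ζ, fun n => ?_⟩
  refine congrArg (fun z : ℂˣ => (z : ℂ)) (congrArg μ (Subtype.ext ?_))
  set w : F.subgroupOf I := (Subgroup.inclusion hNI).codRestrict _ (fun n => h.nle n.2) n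
  show (n : G) * (t w)⁻¹ = n
  rw [h.t_unique (htT w) T.one_mem (by
    rw [inv_one, mul_one, show t w = ((n : G) * (t w)⁻¹)⁻¹ * n by group]
    exact N.mul_mem (N.inv_mem (htn w)) n.2), inv_one, mul_one]

/-- The degree above a nontrivial linear character. -/
theorem lin_deg (h : Frame F D s l N T a) {μ : N →* ℂˣ} (hμ : μ ≠ 1) :
    (stabL μ).relIndex T ∈ D := by
  classical
  haveI := h.normal
  obtain ⟨-, hrel, -, -⟩ := h.toSetting.orbit_data h.nle (h.lin_cond hμ)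
  rw [stabL_eq_inertia]
  show (inertia N ((linIrr μ : IrrCharacter N) : N → ℂ)).relIndex T ∈ D
  rw [← h.relIndex_eq (le_inertia N (IsIrr.classFun (linIrr μ).2))]
  rw [hrel]
  generalize hI : inertia N ((linIrr μ : IrrCharacter N) : N → ℂ) = I
  haveI := Fintype.ofFinite I
  haveI : (F.subgroupOf I).Normal := Subgroup.Normal.subgroupOf inferInstance _
  haveI := Fintype.ofFinite (F.subgroupOf I)
  obtain ⟨f, ξ, hf, hξ, hres⟩ := h.lin_ext μ hI.symm
  obtain ⟨d, hd, he⟩ := (h.toSetting.above h.nle (h.lin_cond hμ) hI.symm (F.subgroupOf I) f hf hξ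
    (by rw [show (fun n => ξ (f n)) = _ from funext hres, classInner_self_irr (linIrr μ).2]
        exact one_ne_zero)
    (le_inertia _ (IsIrr.classFun hξ))).2 rfl
  have h1 : ξ 1 = 1 := by
    rw [← map_one f, hres]
    simp [linIrr]
  rw [h1, one_mul] at he
  exact (Nat.cast_injective he) ▸ hd

/-- Stabilisers of linear characters commute with `a`. -/
theorem lin_comm (h : Frame F D s l N T a) {μ : N →* ℂˣ} (hμ : μ ≠ 1) {u : G} (huT : u ∈ T)
    (hu : u ∈ stabL μ) : a * u = u * a := by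
  classical
  haveI := h.normal
  obtain ⟨htop, -, -, -⟩ := h.toSetting.orbit_data h.nle (h.lin_cond hμ)
  rw [stabL_eq_inertia] at hu
  change u ∈ inertia N ((linIrr μ : IrrCharacter N) : N → ℂ) at hu
  generalize hI : inertia N ((linIrr μ : IrrCharacter N) : N → ℂ) = I at htop hu
  haveI := Fintype.ofFinite I
  haveI : (F.subgroupOf I).Normal := Subgroup.Normal.subgroupOf inferInstance _
  haveI := Fintype.ofFinite (F.subgroupOf I)
  obtain ⟨f, ξ, hf, hξ, hres⟩ := h.lin_ext μ hI.symm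
  obtain ⟨t, ht, htI⟩ := h.exists_shift (hI ▸ le_inertia N (IsIrr.classFun (linIrr μ).2)) htop
  exact h.comm_of_mem ht huT (h.toSetting.comm_mem h.nle (h.lin_cond hμ) hI.symm (F.subgroupOf I)
    f hf hξ hres (fun ζ hζ _ => le_inertia _ (IsIrr.classFun hζ))
    (fun x y => h.commutator_le (by
      have h5 := Subgroup.commutator_mem_commutator (show ((x : I) : G) ∈ F from x.2)
        (show ((y : I) : G) ∈ F from y.2)
      convert h5 using 1
      simp [commutatorElement_def]))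
    ⟨_, htI⟩ ⟨⟨u, hu⟩, h.tle huT⟩)

/-- All nontrivial linear characters have the same stabiliser. -/
theorem stab_eq (h : Frame F D s l N T a) {μ ν : N →* ℂˣ} (hμ : μ ≠ 1) (hν : ν ≠ 1) :
    T ⊓ stabL μ ≤ stabL ν := by
  refine stab_const h.tcomm h.free (fun α β hα hβ hle => ?_) hμ hν
  have hle' : T ⊓ stabL α ≤ T ⊓ stabL β := le_inf inf_le_left hle
  have h4 := Subgroup.relIndex_mul_relIndex _ _ _ hle' (inf_le_left : T ⊓ stabL β ≤ T)
  rw [Subgroup.inf_relIndex_left, Subgroup.inf_relIndex_left] at h4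
  have h2 : (stabL β).relIndex T = (stabL α).relIndex T :=
    h.anti _ (h.lin_deg hβ) _ (h.lin_deg hα) (h4 ▸ dvd_mul_left _ _)
  have h3 : (T ⊓ stabL α).relIndex (T ⊓ stabL β) = 1 := by
    rw [h2] at h4
    refine Nat.eq_of_mul_eq_mul_right
      (Nat.pos_of_ne_zero Subgroup.index_ne_zero_of_finite : 0 < (stabL α).relIndex T) ?_
    rw [one_mul]
    exact h4
  exact fun x hx => ((Subgroup.relIndex_eq_one.1 h3) hx).2

/-- Over a character with small stabiliser the degree is too large. -/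
theorem not_small (h : Frame F D s l N T a) {μ : N →* ℂˣ} (hμ : μ ≠ 1) {φ : IrrCharacter N}
    (hφ : charDegree (φ : N → ℂ) ≠ 1) :
    ¬ T ⊓ inertia N (φ : N → ℂ) ≤ stabL μ := by
  intro hle
  obtain ⟨-, hrel, -, d, hd, hdvd⟩ := h.toSetting.orbit_data h.nle (Or.inl hφ)
  have h1 : (stabL μ).relIndex T ∣ (inertia N (φ : N → ℂ)).relIndex T := by
    rw [← Subgroup.inf_relIndex_left (H := T) (K := stabL μ),
      ← Subgroup.inf_relIndex_left (H := T) (K := inertia N (φ : N → ℂ))]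
    exact Subgroup.relIndex_dvd_of_le_left _ (le_inf inf_le_left hle)
  rw [← h.relIndex_eq (le_inertia N (IsIrr.classFun φ.2)), hrel] at h1
  obtain rfl := h.anti _ (h.lin_deg hμ) _ hd ((h1.trans (dvd_mul_left _ _)).trans hdvd)
  have hpos : 0 < (stabL μ).relIndex T := Nat.pos_of_ne_zero Subgroup.index_ne_zero_of_finite
  have h5 : charDegree (φ : N → ℂ) * (stabL μ).relIndex T ∣ 1 * (stabL μ).relIndex T := by
    rw [one_mul]
    exact (Nat.mul_dvd_mul_left _ h1).trans hdvd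
  exact hφ (Nat.dvd_one.1 (Nat.dvd_of_mul_dvd_mul_right hpos h5))

/-- With `N` commutative only one degree is left. -/
theorem eq_of_comm (h : Frame F D s l N T a) (hNc : ∀ x ∈ N, ∀ y ∈ N, x * y = y * x) :
    ∀ d ∈ D, ∀ e ∈ D, d = e := by
  classical
  have key : ∀ d ∈ D, ∃ μ : N →* ℂˣ, μ ≠ 1 ∧ (stabL μ).relIndex T = d := by
    intro d hd
    obtain ⟨χ, hχd, hχ⟩ := h.att d hd
    push Not at hχ
    obtain ⟨x, hx, hxne⟩ := hχ
    obtain ⟨φ, hφ, hφx⟩ := exists_nonprincipal_constituent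
      (χ := fun n : N => (χ : G → ℂ) n) (IsChar.res (irr_isChar χ) N)
      (g := ⟨x, h.commutator_le hx⟩) (by simpa using hxne)
    obtain ⟨μ, hμ⟩ := linearHom_of_isCharacter (irr_isChar φ) (IsIrr.one_of_comm
      (fun u v => Subtype.ext (hNc u u.2 v v.2)) φ.2)
    have hμ1 : μ ≠ 1 := fun h1 => hφx (by simp [hμ, h1])
    refine ⟨μ, hμ1, h.anti _ (h.lin_deg hμ1) _ hd ?_⟩
    obtain ⟨e, he⟩ := over_deg (show Over χ φ from hφ)
    obtain ⟨-, hrel, -, -⟩ := h.toSetting.orbit_data h.nle (h.lin_cond hμ1)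
    rw [stabL_eq_inertia]
    show (inertia N ((linIrr μ : IrrCharacter N) : N → ℂ)).relIndex T ∣ d
    rw [← h.relIndex_eq (le_inertia N (IsIrr.classFun (linIrr μ).2))]
    rw [hrel, show ((linIrr μ : IrrCharacter N) : N → ℂ) = (φ : N → ℂ) from hμ.symm, ← hχd, he]
    exact (dvd_mul_right _ _).trans (dvd_mul_left _ _)
  intro d hd e he
  obtain ⟨μ, hμ, rfl⟩ := key d hd
  obtain ⟨ν, hν, rfl⟩ := key e he
  rw [← Subgroup.inf_relIndex_left (H := T) (K := stabL μ),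
    ← Subgroup.inf_relIndex_left (H := T) (K := stabL ν),
    le_antisymm (le_inf inf_le_left (h.stab_eq hμ hν) : T ⊓ stabL μ ≤ T ⊓ stabL ν)
      (le_inf inf_le_left (h.stab_eq hν hμ))]

end Frame

end Cfsg.Agent.Block.NDDTwo
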