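import Cfsg.Agent.Lib.Block.NDDTwo.Frame
import Cfsg.Agent.Lib.Block.NDDTwo.Ctx

/-!
# Stabilisers of nonlinear characters commute with the operator

The coprime part of the stabiliser carries an extension; the other part fixes every linear character.
-/

set_option autoImplicit false
set_option linter.style.haveILetI false
set_option linter.unusedSectionVars false

open Cfsg
open scoped ComplexConjugate commutatorElement

namespace Cfsg.Agent.Block.NDDTwo

open Cfsg.Agent Cfsg.Agent.Char Cfsg.Agent.Block.DegreeRel Cfsg.Agent.Char.TwoDeg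

universe u

variable {G : Type u} [Group G] [Fintype G]

/-- A conjugate of an extension is a twist; the twist is trivial for coprime orders. -/
theorem fixed_of_coprime {J : Subgroup G} [J.Normal] [Fintype J] (K : Subgroup J) [K.Normal]
    [Fintype K] {ζ : J → ℂ} (hζ : IsIrrCharacter J ζ)
    (hres : IsIrrCharacter K fun x : K => ζ x) {b : G}
    (hK : ∀ x : K, ζ (conjEquivN J b x) = ζ x)
    (hcom : ∀ x : J, conjEquivN J b x * x⁻¹ ∈ K) {n : ℕ} (hn : b ^ n = 1)
    (hcop : n.Coprime K.index) : b ∈ inertia J ζ := by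
  classical
  have hζ' : IsIrrCharacter J (conjN J b ζ) := IsIrr.conjN J hζ b
  have hK' : (fun x : K => conjN J b ζ x) = fun x : K => ζ x := funext fun x => by
    rw [conjN_eq_comp]
    exact hK x
  obtain ⟨hL, hmul⟩ := gallagher (N := K) hζ hζ' hres (by
    rw [hK', classInner_self_irr hres]
    exact one_ne_zero)
  set L := avgN K (conjN J b ζ * fun g => conj (ζ g))
  have h1 := congrFun hmul 1
  simp only [Pi.mul_apply] at h1
  have hL1 : L 1 = 1 := mul_left_cancel₀ (IsIrr.one_ne_zero hζ) (by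
    rw [h1, mul_one, conjN_eq_comp]
    simp only [map_one])
  obtain ⟨μ, hμ⟩ := linearHom_of_isCharacter (IsIrr.isCharacter hL) hL1
  have hμK : ∀ m : K, μ (m : J) = 1 := fun m => Units.ext (by
    rw [← congrFun hμ (m : J), Units.val_one, ← hL1, ← mul_one (m : J)]
    exact avgN_mul_left K _ m 1)
  have hμb : ∀ x : J, μ (conjEquivN J b x) = μ x := fun x => by
    rw [← mul_inv_eq_one, ← map_inv, ← map_mul]
    exact hμK ⟨_, hcom x⟩
  have hstep : ∀ x : J, ζ (conjEquivN J b x) = (μ x : ℂ) * ζ x := fun x => by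
    rw [← congrFun hμ x, mul_comm]
    exact ((congrFun hmul x).trans (congrFun (conjN_eq_comp J b ζ) x)).symm
  have hit : ∀ k : ℕ, ∀ x : J, ζ (conjEquivN J (b ^ k) x) = ((μ ^ k) x : ℂ) * ζ x ∧
      μ (conjEquivN J (b ^ k) x) = μ x := by
    intro k
    induction k with
    | zero =>
      intro x
      rw [show conjEquivN J (b ^ 0) x = x from Subtype.ext (by simp [conjEquivN_apply])]
      simp
    | succ k ih =>
      intro x
      have e : conjEquivN J (b ^ (k + 1)) x = conjEquivN J (b ^ k) (conjEquivN J b x) :=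
        Subtype.ext (by simp [conjEquivN_apply, pow_succ, mul_assoc])
      rw [e]
      obtain ⟨i1, i2⟩ := ih (conjEquivN J b x)
      refine ⟨?_, i2.trans (hμb x)⟩
      rw [i1, hstep, MonoidHom.pow_apply, MonoidHom.pow_apply, hμb, pow_succ, Units.val_mul, mul_assoc]
  have hμn : μ ^ n = 1 := by
    refine twist_inj K hζ hres (μ := μ ^ n) (ν := 1) (fun k hk => ?_) (fun k _ => rfl) fun x => ?_
    · rw [MonoidHom.pow_apply, hμK ⟨k, hk⟩, one_pow]
    · rw [MonoidHom.one_apply, Units.val_one, one_mul, ← (hit n x).1, hn]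
      exact congrArg ζ (Subtype.ext (by simp [conjEquivN_apply]))
  have hμ1 : μ = 1 := MonoidHom.ext fun x => eq_one_of_pows hcop (DFunLike.congr_fun hμn x)
    (DFunLike.congr_fun (pow_index_eq_one μ hμK) x)
  refine (mem_inertia J).2 ?_
  rw [conjN_eq_comp]
  funext x
  rw [hstep, hμ1, MonoidHom.one_apply, Units.val_one, one_mul]

namespace Frame

variable {F N T : Subgroup G} [hN : N.Normal] [Fintype N] {D : Set ℕ} {s l : ℕ} {a : G}

set_option maxHeartbeats 800000 in
/-- The stabiliser in `T` of a nonlinear character commutes with `a`. -/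
theorem nonlin_comm (h : Frame F D s l N T a)
    (hpart : ∀ b ∈ T, ∀ p k : ℕ, p.Prime → p ∣ Nat.card N → orderOf b = p ^ k → a * b = b * a)
    (θ : IrrCharacter N) (hθ : charDegree (θ : N → ℂ) ≠ 1) {u : G} (huT : u ∈ T)
    (hu : u ∈ inertia N (θ : N → ℂ)) : a * u = u * a := by
  classical
  haveI := h.normal
  obtain ⟨htop, -, -, -⟩ := h.toSetting.orbit_data h.nle (Or.inl hθ)
  generalize hI : inertia N (θ : N → ℂ) = I at htop hu
  haveI := Fintype.ofFinite I
  have hNI : N ≤ I := hI ▸ le_inertia N (IsIrr.classFun θ.2)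
  obtain ⟨t₀, ht₀, ht₀I⟩ := h.exists_shift hNI htop
  let T' : Subgroup G :=
    { carrier := {t | t ∈ T ∧ t ∈ I ∧ (orderOf t).Coprime (Nat.card N)}
      one_mem' := ⟨T.one_mem, I.one_mem, by simp⟩
      mul_mem' := fun {x y} hx hy => ⟨T.mul_mem hx.1 hy.1, I.mul_mem hx.2.1 hy.2.1,
        (hx.2.2.mul_left hy.2.2).coprime_dvd_left
          ((Commute.orderOf_mul_dvd_lcm (h.tcomm x hx.1 y hy.1)).trans (Nat.lcm_dvd_mul _ _))⟩
      inv_mem' := fun {x} hx => ⟨T.inv_mem hx.1, I.inv_mem hx.2.1, by rw [orderOf_inv]; exact hx.2.2⟩ }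
  set J : Subgroup I := (N ⊔ T').subgroupOf I with hJ
  have hmemJ : ∀ w : I, w ∈ J ↔ ∃ t ∈ T', (w : G) * t⁻¹ ∈ N := by
    intro w
    rw [hJ, Subgroup.mem_subgroupOf, ← SetLike.mem_coe, Subgroup.normal_mul]
    constructor
    · rintro ⟨n, hn, t, ht, e⟩
      exact ⟨t, ht, by rw [← e]; simpa using hn⟩
    · rintro ⟨t, ht, hn⟩
      exact ⟨_, hn, t, ht, inv_mul_cancel_right _ _⟩
  have hJF : ∀ w : J, ((w : I) : G) ∈ F := fun w => by
    obtain ⟨t, ht, hn⟩ := (hmemJ w).1 w.2
    rw [← inv_mul_cancel_right ((w : I) : G) t]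
    exact F.mul_mem (h.nle hn) (h.tle ht.1)
  haveI : J.Normal := ⟨fun w hw g => by
    obtain ⟨t, ht, hn⟩ := (hmemJ w).1 hw
    have hF : (g : G) * t * (g : G)⁻¹ ∈ F := h.normal.conj_mem _ (h.tle ht.1) _
    obtain ⟨t', ht', ht'I, hn'⟩ := h.mem_inf hNI hF (I.mul_mem (I.mul_mem g.2 ht.2.1) (I.inv_mem g.2))
    have e : QuotientGroup.mk' N ((g : G) * t * (g : G)⁻¹) = QuotientGroup.mk' N t' := by
      rw [← mul_inv_eq_one, ← map_inv, ← map_mul]
      exact (QuotientGroup.eq_one_iff _).2 hn'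
    have hord : t' ^ orderOf t = 1 := by
      refine h.t_unique (T.pow_mem ht' _) T.one_mem ?_
      rw [inv_one, mul_one, ← QuotientGroup.eq_one_iff, ← QuotientGroup.mk'_apply, map_pow, ← e,
        ← map_pow, conj_pow, pow_orderOf_eq_one, mul_one, mul_inv_cancel, map_one]
    refine (hmemJ _).2 ⟨t', ⟨ht', ht'I, ht.2.2.coprime_dvd_left (orderOf_dvd_of_pow_eq_one hord)⟩, ?_⟩
    rw [show ((g * w * g⁻¹ : I) : G) * t'⁻¹ = ((g : G) * ((w : G) * t⁻¹) * (g : G)⁻¹) *
      ((g : G) * t * (g : G)⁻¹ * t'⁻¹) by simp only [Subgroup.coe_mul, Subgroup.coe_inv]; group]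
    exact N.mul_mem (hN.conj_mem _ hn _) hn'⟩
  haveI := Fintype.ofFinite J
  have hfmem : ∀ n : N, (⟨n, hNI n.2⟩ : I) ∈ J := fun n =>
    (hmemJ _).2 ⟨1, T'.one_mem, by simp⟩
  let f : N →* J := (Subgroup.inclusion hNI).codRestrict J hfmem
  have hf : ∀ n : N, (((f n : I)) : G) = n := fun n => rfl
  set K : Subgroup J := (N.subgroupOf I).subgroupOf J with hK
  haveI : (N.subgroupOf I).Normal := Subgroup.Normal.subgroupOf hN _
  haveI : K.Normal := Subgroup.Normal.subgroupOf inferInstance _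
  haveI : Fintype K := Fintype.ofFinite _
  have hcop : ((N.subgroupOf I).relIndex J).Coprime (Nat.card N) := by
    refine Nat.coprime_of_dvd fun p hp hpK hpN => ?_
    haveI := Fact.mk hp
    change p ∣ K.index at hpK
    rw [Subgroup.index_eq_card] at hpK
    obtain ⟨x, hx⟩ := exists_prime_orderOf_dvd_card' p hpK
    induction x using QuotientGroup.induction_on with | _ w =>
    obtain ⟨t, ht, hn⟩ := (hmemJ w).1 w.2
    have h1 : (w : J ⧸ K) ^ orderOf t = 1 := by
      rw [← QuotientGroup.mk_pow, QuotientGroup.eq_one_iff]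
      show ((((w ^ orderOf t : J)) : I) : G) ∈ N
      rw [← QuotientGroup.eq_one_iff, ← QuotientGroup.mk'_apply]
      simp only [Subgroup.coe_pow, map_pow]
      rw [show QuotientGroup.mk' N ((w : I) : G) = QuotientGroup.mk' N t by
        rw [← mul_inv_eq_one, ← map_inv, ← map_mul]; exact (QuotientGroup.eq_one_iff _).2 hn,
        ← map_pow, pow_orderOf_eq_one, map_one]
    have h2 := orderOf_dvd_of_pow_eq_one h1
    rw [hx] at h2
    exact hp.ne_one (Nat.eq_one_of_dvd_coprimes ht.2.2 h2 hpN)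
  obtain ⟨ξ, hξ, hres⟩ := exists_ext θ hI.symm J f hf hcop
  have hab : ∀ x y : J, (((⁅x, y⁆ : J) : I) : G) ∈ N := fun x y => h.commutator_le (by
    have h5 := Subgroup.commutator_mem_commutator (hJF x) (hJF y)
    convert h5 using 1
    simp [commutatorElement_def])
  have hfix : ∀ ζ : J → ℂ, IsIrrCharacter J ζ → (∀ n, ζ (f n) = (θ : N → ℂ) n) →
      F.subgroupOf I ≤ inertia J ζ := by
    intro ζ hζ hζres g hg
    obtain ⟨t, ht, htI, hn⟩ := h.mem_inf hNI (show (g : G) ∈ F from hg) g.2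
    have e : g = ⟨(g : G) * t⁻¹, hNI hn⟩ * ⟨t, htI⟩ := Subtype.ext (by simp)
    rw [e]
    refine (inertia J ζ).mul_mem (le_inertia J (IsIrr.classFun hζ) (hfmem ⟨_, hn⟩)) ?_
    refine mem_of_prime_parts _ _ fun p hp b hb hbz => ?_
    obtain ⟨k, hk⟩ := hb
    have hbT : (b : G) ∈ T := by
      have h1 : (⟨t, htI⟩ : I) ∈ T.subgroupOf I := ht
      exact Subgroup.zpowers_le.2 h1 hbz
    by_cases hpN : p ∣ Nat.card N
    · haveI := Fact.mk hp
      have hKres : ∀ x : K, ∃ n : N, f n = x := fun x =>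
        ⟨⟨_, x.2⟩, Subtype.ext (Subtype.ext rfl)⟩
      have hresK : IsIrrCharacter K fun x : K => ζ x := by
        have hfK : ∀ n, f n ∈ K := fun n => show ((f n : I) : G) ∈ N by rw [hf]; exact n.2
        set e : N →* K := f.codRestrict K hfK
        have he : Function.Bijective e := ⟨fun p q hpq => Subtype.ext (by
          rw [← hf p, ← hf q]
          exact congrArg (fun x : K => (((x : J) : I) : G)) hpq), fun x =>
          ⟨⟨_, x.2⟩, Subtype.ext (Subtype.ext (Subtype.ext (hf _)))⟩⟩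
        have h1 := IsIrr.comp_mulEquiv (MulEquiv.ofBijective e he).symm θ.2
        convert h1 using 1
        funext x
        obtain ⟨n, rfl⟩ := he.2 x
        show ζ (f n) = _
        rw [hζres]
        exact congrArg (θ : N → ℂ) ((MulEquiv.ofBijective e he).symm_apply_apply n).symm
      refine fixed_of_coprime K hζ hresK (b := b) (n := p ^ k) (fun x => ?_) (fun x => ?_)
        (by rw [← hk, pow_orderOf_eq_one]) ?_
      · obtain ⟨n, hn'⟩ := hKres x
        have e2 : conjEquivN J b (x : J) = f (conjEquivN N (b : G) n) := by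
          rw [← hn']
          refine Subtype.ext (Subtype.ext ?_)
          rw [hf, conjEquivN_apply, conjEquivN_apply]
          simp [hf]
        rw [e2, hζres, ← hn', hζres]
        have h3 := (mem_inertia N).1 (show (b : G) ∈ inertia N (θ : N → ℂ) from hI ▸ b.2)
        rw [conjN_eq_comp] at h3
        exact congrFun h3 n
      · show ((((conjEquivN J b x * x⁻¹ : J)) : I) : G) ∈ N
        refine h.commutator_le ?_
        have h5 := Subgroup.commutator_mem_commutator (h.tle hbT) (hJF x)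
        convert h5 using 1
        simp [conjEquivN_apply, commutatorElement_def]
      · exact ((hp.coprime_iff_not_dvd.2 fun hd => hp.ne_one
          (Nat.eq_one_of_dvd_coprimes hcop hd hpN)).pow_left k)
    · refine le_inertia J (IsIrr.classFun hζ) ((hmemJ b).2 ⟨(b : G), ⟨hbT, b.2, ?_⟩, by simp⟩)
      rw [Subgroup.orderOf_coe, hk]
      exact (hp.coprime_iff_not_dvd.2 hpN).pow_left k
  have hcomm := h.toSetting.comm_mem h.nle (Or.inl hθ) hI.symm J f hf hξ hres hfix hab ⟨_, ht₀I⟩
  have hfinal : u ∈ Subgroup.centralizer ({a} : Set G) ⊓ T ⊓ I := by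
    refine mem_of_prime_parts _ _ fun p hp b hb hbz => ?_
    obtain ⟨k, hk⟩ := hb
    have hbT : b ∈ T := Subgroup.zpowers_le.2 huT hbz
    have hbI : b ∈ I := Subgroup.zpowers_le.2 hu hbz
    refine ⟨⟨Subgroup.mem_centralizer_singleton_iff.2 ?_, hbT⟩, hbI⟩
    refine Eq.symm ?_
    by_cases hpN : p ∣ Nat.card N
    · exact hpart b hbT p k hp hpN hk
    · refine h.comm_of_mem ht₀ hbT (hcomm ⟨⟨b, hbI⟩, (hmemJ _).2 ⟨b, ⟨hbT, hbI, ?_⟩, by simp⟩⟩)
      rw [hk]
      exact (hp.coprime_iff_not_dvd.2 hpN).pow_left k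
  exact (Subgroup.mem_centralizer_singleton_iff.1 hfinal.1.1).symm

end Frame

end Cfsg.Agent.Block.NDDTwo
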