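import Cfsg.Agent.Lib.Block.NDDTwo.CaseB
import Cfsg.Agent.Lib.Block.ThreeDeg.Metabelian
import Cfsg.Agent.S4456

/-!
# No divisibility and two components give three degrees
-/

set_option autoImplicit false
set_option linter.style.haveILetI false
set_option linter.unusedSectionVars false

open Cfsg
open scoped ComplexConjugate commutatorElement

namespace Cfsg.Agent.Block.NDDTwo

open Cfsg.Agent Cfsg.Agent.Char Cfsg.Agent.Block

universe u

variable {G : Type u} [Group G] [Fintype G]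

set_option maxHeartbeats 1000000 in
/-- Over a character of degree prime to `s` the orbit of a regular linear character is gained. -/
theorem exists_regular_above (K : Subgroup G) [K.Normal] [Fintype (G ⧸ K)] {s : ℕ} [Fact s.Prime]
    (S : Sylow s (G ⧸ K)) [(S : Subgroup (G ⧸ K)).Normal]
    (l : (S : Subgroup (G ⧸ K)) →* ℂˣ) {r : ℕ}
    (hl : (inertia (S : Subgroup (G ⧸ K)) fun n : (S : Subgroup (G ⧸ K)) => (l n : ℂ)).index = r)
    (F : Subgroup G) [F.Normal] [Fintype F] (hF : F = (S : Subgroup (G ⧸ K)).comap (QuotientGroup.mk' K))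
    (θ : IrrCharacter F) (hθs : ¬ s ∣ charDegree (θ : F → ℂ)) :
    ∃ χ : IrrCharacter G, r * charDegree (θ : F → ℂ) ∣ charDegree (χ : G → ℂ) := by
  classical
  set x := charDegree (θ : F → ℂ) with hx
  set π := QuotientGroup.mk' K with hπ
  have hπs : Function.Surjective π := QuotientGroup.mk'_surjective K
  have hs : s.Prime := Fact.out
  obtain ⟨ν, hν⟩ := isCharacter_detChar θ.2
  set k := (Nat.card F).factorization s with hk
  set m := Nat.card F / s ^ k with hm
  have hxs : x.Coprime s := (hs.coprime_iff_not_dvd.2 hθs).symm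
  haveI : NeZero (s ^ k) := ⟨pow_ne_zero _ hs.ne_zero⟩
  obtain ⟨j, q, hj⟩ := ThreeDeg.exists_dvd_succ_mul (hxs.pow_right k)
  let f : F →* (S : Subgroup (G ⧸ K)) := (π.comp F.subtype).codRestrict (S : Subgroup (G ⧸ K))
    fun n => by have := n.2; simp only [hF, Subgroup.mem_comap] at this; exact this
  set μ : F →* ℂˣ := ν ^ j * l.comp f with hμ
  set τ : F → ℂ := fun n => (μ n : ℂ) * (θ : F → ℂ) n with hτ
  have hτi : IsIrrCharacter F τ := IsIrr.mul_linear θ.2 μ
  have hτ1 : τ 1 = (x : ℂ) := by simp [hτ, charDeg_spec' θ, hx]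
  have hdet : ∀ n : F, detChar τ n = ((ν n ^ (1 + j * x) * l (f n) ^ x : ℂˣ) : ℂ) := by
    intro n
    rw [hτ, detChar_mul_linear θ.2 (by rw [charDeg_spec' θ]) μ, hν]
    simp only [hμ, MonoidHom.mul_apply, MonoidHom.pow_apply, MonoidHom.comp_apply, Units.val_mul,
      Units.val_pow_eq_pow_val, mul_pow, ← pow_mul, ← hx]
    ring
  have hcard : s ^ k * m = Nat.card F := Nat.ordProj_mul_ordCompl_eq_self _ _
  have hνm : ∀ n : F, (ν n ^ (1 + j * x)) ^ m = 1 := fun n => by
    rw [← pow_mul, hj, mul_assoc, mul_comm q, ← mul_assoc, hcard, pow_mul, ← map_pow,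
      pow_card_eq_one', map_one, one_pow]
  obtain ⟨i, hi⟩ := IsPGroup.iff_card.1 S.isPGroup'
  have hcopi : Nat.Coprime (x * m) (s ^ i) := Nat.Coprime.pow_right i
    (Nat.Coprime.mul_left hxs (hs.coprime_iff_not_dvd.2
      (Nat.not_dvd_ordCompl hs Nat.card_pos.ne')).symm)
  have hle : inertia F τ ≤
      (inertia (S : Subgroup (G ⧸ K)) fun n : (S : Subgroup (G ⧸ K)) => (l n : ℂ)).comap π := by
    intro g hg
    rw [Subgroup.mem_comap, mem_inertia]
    funext u
    obtain ⟨g₀, hg₀⟩ := hπs (u : G ⧸ K)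
    have hgF : g₀ ∈ F := by
      rw [hF, Subgroup.mem_comap, hg₀]
      exact u.2
    set n : F := ⟨g₀, hgF⟩
    set n' : F := conjEquivN F g n with hn'
    have hfu : f n = u := Subtype.ext hg₀
    have hfu' : (f n' : G ⧸ K) = π g * u * (π g)⁻¹ := by
      show π ((n' : F) : G) = _
      rw [hn', conjEquivN_apply]
      simp [n, hg₀]
    have hd := detChar_comp hτi (conjEquivN F g).toMonoidHom hτi (fun y => by
      have := congrFun ((mem_inertia F).1 hg) y
      rw [conjN_eq_comp] at this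
      exact this) n
    rw [hdet, MulEquiv.coe_toMonoidHom, ← hn', hdet] at hd
    have hd' := congrArg (fun z : ℂˣ => z ^ m) (Units.ext hd :
      ν n ^ (1 + j * x) * l (f n) ^ x = ν n' ^ (1 + j * x) * l (f n') ^ x)
    simp only [mul_pow, hνm, one_mul, ← pow_mul] at hd'
    have hz : l (f n') * (l (f n))⁻¹ = 1 := by
      refine orderOf_eq_one_iff.1 (Nat.eq_one_of_dvd_coprimes hcopi
        (orderOf_dvd_of_pow_eq_one ?_) (orderOf_dvd_of_pow_eq_one ?_))
      · rw [mul_pow, inv_pow, hd', mul_inv_cancel]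
      · rw [← hi, mul_pow, inv_pow, ← map_pow l, ← map_pow l, pow_card_eq_one', pow_card_eq_one',
          map_one, mul_inv_cancel]
    rw [conjN_apply, ← hfu, mul_inv_eq_one.1 hz |>.symm]
    congr 2
  have hridx : r ∣ (inertia F τ).index := by
    rw [← hl, ← Subgroup.index_comap_of_surjective _ hπs]
    exact Subgroup.index_dvd_of_le hle
  obtain ⟨χ', hχ'⟩ := exists_over F (⟨τ, hτi⟩ : IrrCharacter F)
  obtain ⟨a, ha, -⟩ := IsChar.exists_decomp_inner (IsChar.res (IsIrr.isCharacter χ'.2) F)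
  have hd' : charDegree (χ' : G → ℂ) = a ⟨τ, hτi⟩ * (inertia F τ).index * x := PIto.charDeg_eq (by
    rw [clifford_one F χ'.2 hτi hχ', ha ⟨τ, hτi⟩, hτ1, Nat.cast_mul, Nat.cast_mul])
  exact ⟨χ', hd' ▸ mul_dvd_mul_right (hridx.trans (dvd_mul_left _ _)) _⟩

/-- With a least normal subgroup, the inertia group of a linear character of the normal Sylow
subgroup moved by someone is that Sylow subgroup. -/
theorem inertia_eq_sylow {H : Type u} [Group H] [Fintype H] [Group.IsSolvable H] {s : ℕ}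
    [Fact s.Prime] (S : Sylow s H) [(S : Subgroup H).Normal] [Fintype (S : Subgroup H)]
    (hne : commutator H ≠ ⊥) (hmin : ∀ M : Subgroup H, M.Normal → M ≠ ⊥ → commutator H ≤ M)
    (hsQ : IsPGroup s (commutator H)) (hS : commutator H ≤ S) (lam : (S : Subgroup H) →* ℂˣ)
    (hmoved : (inertia (S : Subgroup H) fun n : (S : Subgroup H) => (lam n : ℂ)) ≠ ⊤) :
    (inertia (S : Subgroup H) fun n : (S : Subgroup H) => (lam n : ℂ)) = (S : Subgroup H) := by
  classical
  have hs : s.Prime := Fact.out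
  set T := inertia (S : Subgroup H) fun n : (S : Subgroup H) => (lam n : ℂ) with hT
  have hST : (S : Subgroup H) ≤ T := le_inertia _ (IsIrr.classFun (isIrr_linear lam))
  refine le_antisymm ?_ hST
  by_contra hno
  have hdvd : (S : Subgroup H).relIndex T ≠ 1 := fun e => hno (Subgroup.relIndex_eq_one.1 e)
  obtain ⟨t, ht, htd⟩ := Nat.exists_prime_and_dvd hdvd
  haveI := Fact.mk ht
  have hts : t ≠ s := by
    intro e
    have h1 := htd.trans (Subgroup.relIndex_dvd_index_of_le hST)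
    rw [e] at h1
    exact S.not_dvd_index h1
  obtain ⟨b, hb⟩ := exists_prime_orderOf_dvd_card' (G := T) t
    (htd.trans (Subgroup.relIndex_dvd_card _ _))
  set a : H := (b : H) with ha'
  have ha : orderOf a = t := by rw [ha', Subgroup.orderOf_coe, hb]
  set R := commutator H with hR
  have hRab : ∀ x ∈ R, ∀ y ∈ R, x * y = y * x := fun x hx y hy => by
    haveI : R.Normal := inferInstance
    obtain ⟨hc, -⟩ := Grp.minimal_normal_solvable (N := R) inferInstance hne
      (fun M hM hle => or_iff_not_imp_left.2 fun h => le_antisymm hle (hmin M hM h))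
    exact congrArg (fun z : R => (z : H)) (mul_comm' (⟨x, hx⟩ : R) ⟨y, hy⟩)
  have hfix : ∀ n : (S : Subgroup H), lam ⟨a * n * a⁻¹,
      (inferInstance : (S : Subgroup H).Normal).conj_mem n n.2 a⟩ = lam n := fun n =>
    Units.ext (congrFun ((mem_inertia _).1 b.2) n)
  -- `a` fixes a nontrivial element of the derived subgroup
  obtain ⟨c, hc, hc1, hac⟩ : ∃ c ∈ R, c ≠ 1 ∧ a * c = c * a := by
    by_contra hnone
    push Not at hnone
    have hbij : ∀ z ∈ R, ∀ hz : z ∈ (S : Subgroup H), lam ⟨z, hz⟩ = 1 := by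
      intro z hz hzS
      let g : R → R := fun k =>
        ⟨(k : H)⁻¹ * (a * k * a⁻¹), R.mul_mem (R.inv_mem k.2)
          ((inferInstance : R.Normal).conj_mem k k.2 a)⟩
      have hg : Function.Injective g := fun k k' e => by
        have e1 : (k : H)⁻¹ * (a * k * a⁻¹) = (k' : H)⁻¹ * (a * k' * a⁻¹) :=
          congrArg Subtype.val e
        by_contra hkk
        refine hnone ((k' : H) * (k : H)⁻¹) (R.mul_mem k'.2 (R.inv_mem k.2))
          (fun h1 => hkk (Subtype.ext (mul_inv_eq_one.1 h1).symm)) ?_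
        calc a * ((k' : H) * (k : H)⁻¹)
            = (k' : H) * ((k' : H)⁻¹ * (a * k' * a⁻¹)) *
                ((a * (k : H) * a⁻¹)⁻¹ * a) := by group
          _ = (k' : H) * ((k : H)⁻¹ * (a * k * a⁻¹)) *
                ((a * (k : H) * a⁻¹)⁻¹ * a) := by rw [e1]
          _ = (k' : H) * (k : H)⁻¹ * a := by group
      obtain ⟨k, hk⟩ := Finite.injective_iff_surjective.1 hg ⟨z, hz⟩
      have hk' : (k : H)⁻¹ * (a * k * a⁻¹) = z := congrArg Subtype.val hk
      rw [show (⟨z, hzS⟩ : (S : Subgroup H)) =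
          (⟨k, hS k.2⟩ : (S : Subgroup H))⁻¹ * ⟨a * k * a⁻¹,
            (inferInstance : (S : Subgroup H).Normal).conj_mem k (hS k.2) a⟩ from
        Subtype.ext hk'.symm, map_mul, map_inv, hfix ⟨k, hS k.2⟩, inv_mul_cancel]
    have htop : T = ⊤ := by
      rw [hT, Subgroup.eq_top_iff']
      intro g
      refine (mem_inertia _).2 (funext fun n => ?_)
      rw [conjN_apply]
      refine congrArg (fun z : ℂˣ => (z : ℂ)) ?_
      rw [← mul_inv_eq_one, ← map_inv, ← map_mul]
      exact hbij _ (Subgroup.commutator_mem_commutator (Subgroup.mem_top g)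
        (Subgroup.mem_top (n : H))) _
    exact hmoved htop
  -- hence it is central
  let Cn : Subgroup H := R ⊓ Subgroup.centralizer ({a} : Set H)
  have hCn : Cn.Normal := by
    refine ⟨fun n hn g => ⟨(inferInstance : R.Normal).conj_mem n hn.1 g,
      Subgroup.mem_centralizer_singleton_iff.2 ?_⟩⟩
    have h1 : n * a = a * n := Subgroup.mem_centralizer_singleton_iff.1 hn.2
    set w := g⁻¹ * a * g * a⁻¹ with hw
    have hwR : w ∈ R := by
      rw [show w = ⁅g⁻¹, a⁆ by rw [hw, commutatorElement_def, inv_inv]]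
      exact Subgroup.commutator_mem_commutator (Subgroup.mem_top _) (Subgroup.mem_top _)
    have h2 : n * (g⁻¹ * a * g) = g⁻¹ * a * g * n := by
      rw [show g⁻¹ * a * g = w * a by rw [hw]; group, ← mul_assoc, hRab n hn.1 w hwR, mul_assoc, h1,
        ← mul_assoc]
    calc g * n * g⁻¹ * a = g * (n * (g⁻¹ * a * g)) * g⁻¹ := by group
      _ = a * (g * n * g⁻¹) := by rw [h2]; group
  have hle : R ≤ Cn := hmin Cn hCn fun hb' => hc1 (Subgroup.mem_bot.1
    (hb' ▸ (⟨hc, Subgroup.mem_centralizer_singleton_iff.2 hac.symm⟩ : c ∈ Cn)))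
  have hcent : a ∈ Subgroup.center H := by
    refine Subgroup.mem_center_iff.2 fun g => ?_
    set w := g * a * g⁻¹ * a⁻¹ with hw
    have hwR : w ∈ R := by
      rw [← commutatorElement_def] at hw
      rw [hw]
      exact Subgroup.commutator_mem_commutator (Subgroup.mem_top _) (Subgroup.mem_top _)
    have hwa : Commute w a := Subgroup.mem_centralizer_singleton_iff.1 (hle hwR).2
    have hat : a ^ t = 1 := by rw [← ha]; exact pow_orderOf_eq_one a
    have h1 : (w * a) ^ t = 1 := by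
      rw [hw, inv_mul_cancel_right, conj_pow, hat, mul_one, mul_inv_cancel]
    rw [hwa.mul_pow, hat, mul_one] at h1
    obtain ⟨k, hk⟩ := hsQ ⟨w, hwR⟩
    have hk' : w ^ s ^ k = 1 := congrArg (fun z : R => (z : H)) hk
    have hw1 : w = 1 := orderOf_eq_one_iff.1 (Nat.eq_one_of_dvd_coprimes
      (Nat.Coprime.pow_right k ((Nat.coprime_primes ht hs).2 hts))
      (orderOf_dvd_of_pow_eq_one h1) (orderOf_dvd_of_pow_eq_one hk'))
    rw [hw, mul_inv_eq_one, mul_inv_eq_iff_eq_mul] at hw1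
    exact hw1
  have hZn : (Subgroup.zpowers a).Normal := by
    refine ⟨fun x hx g => ?_⟩
    have hx' : x ∈ Subgroup.center H := Subgroup.zpowers_le.2 hcent hx
    rwa [Subgroup.mem_center_iff.1 hx' g, mul_inv_cancel_right]
  have hZ := hmin _ hZn fun e => ht.ne_one (by
    rw [← ha, orderOf_eq_one_iff]
    exact Subgroup.mem_bot.1 (e ▸ Subgroup.mem_zpowers a))
  obtain ⟨i, rfl⟩ := Subgroup.mem_zpowers_iff.1 (hZ hc)
  obtain ⟨k, hk⟩ := hsQ ⟨_, hc⟩
  refine hc1 (orderOf_eq_one_iff.1 (Nat.eq_one_of_dvd_coprimes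
    (Nat.Coprime.pow_right k ((Nat.coprime_primes ht hs).2 hts))
    (ha ▸ orderOf_dvd_of_pow_eq_one ?_)
    (orderOf_dvd_of_pow_eq_one (congrArg (fun z : R => (z : H)) hk))))
  rw [← zpow_natCast, ← zpow_mul, mul_comm, zpow_mul, zpow_natCast, pow_orderOf_eq_one, one_zpow]

set_option maxHeartbeats 1000000 in
/-- The complement, the Sylow subgroup and the operator. -/
theorem exists_operator (K : Subgroup G) [K.Normal] [Fintype (G ⧸ K)] {s : ℕ} [Fact s.Prime]
    (S : Sylow s (G ⧸ K)) [(S : Subgroup (G ⧸ K)).Normal] [Fintype (S : Subgroup (G ⧸ K))]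
    (lam : (S : Subgroup (G ⧸ K)) →* ℂˣ)
    (hTS : (inertia (S : Subgroup (G ⧸ K)) fun n : (S : Subgroup (G ⧸ K)) => (lam n : ℂ)) =
      (S : Subgroup (G ⧸ K)))
    {F : Subgroup G} [F.Normal] [Fintype F]
    (hF : F = (S : Subgroup (G ⧸ K)).comap (QuotientGroup.mk' K))
    (hFdiv : ∀ θ : IrrCharacter F, charDegree (θ : F → ℂ) ≠ 1 → s ∣ charDegree (θ : F → ℂ))
    {l : ℕ} (hl : l.Prime) (hlF : l ∣ F.index) :
    ∃ (M Q : Subgroup G) (a : G), M.Normal ∧ M ≤ F ∧ Q ≤ F ∧ M ⊔ Q = F ∧ M ⊓ Q = ⊥ ∧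
      (Nat.card M).Coprime s ∧ IsPGroup s Q ∧ (∀ q ∈ Q, a⁻¹ * q * a ∈ Q) ∧
      (∃ i : ℕ, a ^ l ^ i = 1) ∧ ∃ q ∈ Q, a * q ≠ q * a := by
  classical
  haveI := Fact.mk hl
  have hs : s.Prime := Fact.out
  set π := QuotientGroup.mk' K with hπ
  have hπs : Function.Surjective π := QuotientGroup.mk'_surjective K
  obtain ⟨M', hM'n, hM'cop, k, hM'idx⟩ := S4456.result (G := F) s hs hFdiv
  haveI := hM'n
  set M : Subgroup G := M'.map F.subtype with hM
  have hMmem : ∀ x : G, x ∈ M ↔ x ∈ F ∧ (orderOf x).Coprime s := by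
    intro x
    constructor
    · rintro ⟨y, hy, rfl⟩
      exact ⟨y.2, by
        show (orderOf (y : G)).Coprime s
        rw [Subgroup.orderOf_coe]
        exact hM'cop.coprime_dvd_left (Subgroup.orderOf_dvd_natCard _ hy)⟩
    · rintro ⟨hxF, hxo⟩
      refine ⟨⟨x, hxF⟩, (QuotientGroup.eq_one_iff (N := M') _).1 ?_, rfl⟩
      refine orderOf_eq_one_iff.1 (Nat.eq_one_of_dvd_coprimes (hxo.pow_right k) ?_ ?_)
      · have h1 := orderOf_map_dvd (QuotientGroup.mk' M') (⟨x, hxF⟩ : F)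
        rw [Subgroup.orderOf_mk] at h1
        exact h1
      · rw [← hM'idx, Subgroup.index_eq_card]
        exact orderOf_dvd_natCard _
  haveI hMn : M.Normal := ⟨fun x hx g => by
    rw [hMmem] at hx ⊢
    refine ⟨(inferInstance : F.Normal).conj_mem x hx.1 g, ?_⟩
    rw [show orderOf (g * x * g⁻¹) = orderOf x from
      orderOf_injective (MulAut.conj g).toMonoidHom (MulAut.conj g).injective x]
    exact hx.2⟩
  haveI := Fintype.ofFinite M
  have hMcard : Nat.card M = Nat.card M' :=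
    Subgroup.card_map_of_injective F.subtype_injective
  obtain ⟨P⟩ : Nonempty (Sylow s F) := inferInstance
  set Q : Subgroup G := (P : Subgroup F).map F.subtype with hQ
  have hQp : IsPGroup s Q := P.isPGroup'.map _
  have hdisj : M ⊓ Q = ⊥ := by
    rw [eq_bot_iff]
    rintro x ⟨hxM, hxQ⟩
    obtain ⟨j, hj⟩ := hQp ⟨x, hxQ⟩
    exact Subgroup.mem_bot.2 (orderOf_eq_one_iff.1 (Nat.eq_one_of_dvd_coprimes
      (((hMmem x).1 hxM).2.pow_right j) dvd_rfl
      (orderOf_dvd_of_pow_eq_one (congrArg Subtype.val hj :))))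
  have hsup : M ⊔ Q = F := by
    have hle : M ⊔ Q ≤ F := sup_le (Subgroup.map_subtype_le _) (Subgroup.map_subtype_le _)
    refine le_antisymm hle fun x hx => ?_
    have hnd : ¬ s ∣ (P : Subgroup F).index := P.not_dvd_index
    have h2 : (M' ⊔ (P : Subgroup F)).index ∣ (P : Subgroup F).index :=
      Subgroup.index_dvd_of_le le_sup_right
    have h3 : (M' ⊔ (P : Subgroup F)).index ∣ s ^ k := by
      rw [← hM'idx]
      exact Subgroup.index_dvd_of_le le_sup_left
    have hc : (P : Subgroup F).index.Coprime (s ^ k) :=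
      ((hs.coprime_iff_not_dvd.2 hnd).symm).pow_right k
    have htop : M' ⊔ (P : Subgroup F) = ⊤ :=
      Subgroup.index_eq_one.1 (Nat.eq_one_of_dvd_coprimes hc h2 h3)
    have h1 : (⟨x, hx⟩ : F) ∈ M' ⊔ (P : Subgroup F) := by rw [htop]; trivial
    rw [hM, hQ, ← Subgroup.map_sup]
    exact ⟨_, h1, rfl⟩
  -- the operator
  obtain ⟨a, haN, haF, i, hai⟩ : ∃ a ∈ Subgroup.normalizer (Q : Set G),
      a ∉ F ∧ ∃ i : ℕ, a ^ l ^ i = 1 := by
    have hnorm : Subgroup.normalizer (Q : Set G) ⊔ F = ⊤ := Sylow.normalizer_sup_eq_top P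
    obtain ⟨z, hz⟩ := exists_prime_orderOf_dvd_card' (G := G ⧸ F) l
      (by rw [← Subgroup.index_eq_card]; exact hlF)
    obtain ⟨w, rfl⟩ := QuotientGroup.mk'_surjective F z
    have hw : w ∈ ((Subgroup.normalizer (Q : Set G) ⊔ F : Subgroup G) : Set G) := by
      rw [hnorm]; trivial
    rw [Subgroup.mul_normal] at hw
    obtain ⟨n, hn, f, hf, rfl⟩ := hw
    rw [map_mul, QuotientGroup.mk'_apply F f, (QuotientGroup.eq_one_iff f).2 hf, mul_one] at hz
    refine ⟨n ^ (ordCompl[l] (orderOf n)), pow_mem hn _, fun hmem => ?_,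
      (orderOf n).factorization l, ?_⟩
    · have h1 : QuotientGroup.mk' F n ^ (ordCompl[l] (orderOf n)) = 1 := by
        rw [← map_pow]
        exact (QuotientGroup.eq_one_iff _).2 hmem
      have h2 := orderOf_dvd_of_pow_eq_one h1
      rw [hz] at h2
      exact Nat.not_dvd_ordCompl hl (orderOf_pos n).ne' h2
    · rw [← pow_mul, mul_comm, Nat.ordProj_mul_ordCompl_eq_self, pow_orderOf_eq_one]
  have haact : ∃ q ∈ Q, a * q ≠ q * a := by
    by_contra hnone
    push Not at hnone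
    refine haF ?_
    rw [hF, Subgroup.mem_comap, ← hTS]
    refine (mem_inertia _).2 (funext fun u => ?_)
    obtain ⟨w, hw⟩ := hπs (u : G ⧸ K)
    have hwF : w ∈ ((M ⊔ Q : Subgroup G) : Set G) := by
      rw [hsup, hF]
      show π w ∈ (S : Subgroup (G ⧸ K))
      rw [hw]
      exact u.2
    rw [Subgroup.normal_mul] at hwF
    obtain ⟨m, hm, q, hq, rfl⟩ := hwF
    have hm1 : π m = 1 := by
      obtain ⟨j, hj⟩ := S.isPGroup' ⟨π m, (show π m ∈ (S : Subgroup (G ⧸ K)) by
        have := ((hMmem m).1 hm).1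
        rwa [hF] at this)⟩
      exact orderOf_eq_one_iff.1 (Nat.eq_one_of_dvd_coprimes (((hMmem m).1 hm).2.pow_right j)
        (orderOf_map_dvd π m) (orderOf_dvd_of_pow_eq_one (congrArg Subtype.val hj :)))
    rw [map_mul, hm1, one_mul] at hw
    rw [conjN_apply]
    refine congrArg (fun z : (S : Subgroup (G ⧸ K)) => ((lam z : ℂˣ) : ℂ)) (Subtype.ext ?_)
    show π a * (u : G ⧸ K) * (π a)⁻¹ = (u : G ⧸ K)
    rw [← hw, ← map_inv, ← map_mul, ← map_mul, hnone q hq, mul_inv_cancel_right]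
  exact ⟨M, Q, a, hMn, Subgroup.map_subtype_le _, Subgroup.map_subtype_le _, hsup, hdisj,
    hMcard ▸ hM'cop, hQp, fun q hq => (Subgroup.mem_normalizer_iff''.1 haN q).1 hq, ⟨i, hai⟩,
    haact⟩

set_option maxHeartbeats 2000000 in
/-- The three degrees. -/
theorem three_degrees [Group.IsSolvable G]
    (hnd : ∀ a ∈ charDegrees G, ∀ b ∈ charDegrees G, 1 < a → a < b → ¬ a ∣ b)
    (htwo : Nat.card ((degreeGraph G).induce (degreePrimes G)).ConnectedComponent = 2) :
    Nat.card (charDegrees G) = 3 := by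
  classical
  set Γ := (degreeGraph G).induce (degreePrimes G) with hΓ
  have near : ∀ (a b : degreePrimes G) (d : ℕ), d ∈ charDegrees G → (a : ℕ) ∣ d → (b : ℕ) ∣ d →
      Γ.Reachable a b := by
    intro a b d hd ha hb
    by_cases hab' : a = b
    · rw [hab']
    have hne : (a : ℕ) ≠ b := fun e => hab' (Subtype.ext e)
    exact SimpleGraph.Adj.reachable (show (degreeGraph G).Adj a b from
      ⟨hne, a.2.1, b.2.1, d, hd, ((Nat.coprime_primes a.2.1 b.2.1).2 hne).mul_dvd_of_dvd_of_dvd ha hb⟩)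
  have notone : ∀ v : degreePrimes G, ¬ ∀ w : degreePrimes G, Γ.Reachable w v := by
    intro v hall
    haveI : Subsingleton Γ.ConnectedComponent := ⟨fun c c' => by
      induction c using SimpleGraph.ConnectedComponent.ind with | h w =>
      induction c' using SimpleGraph.ConnectedComponent.ind with | h w' =>
      exact SimpleGraph.ConnectedComponent.eq.2 ((hall w).trans (hall w').symm)⟩
    have : Nat.card Γ.ConnectedComponent ≤ 1 := Finite.card_le_one_iff_subsingleton.2 inferInstance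
    omega
  have dpos : ∀ d ∈ charDegrees G, 0 < d := by
    rintro _ ⟨χ, rfl⟩
    exact charDeg_pos χ
  have hanti : ∀ a ∈ charDegrees G, ∀ b ∈ charDegrees G, 1 < a → a ∣ b → a = b := fun a ha b hb h1 h =>
    (lt_or_eq_of_le (Nat.le_of_dvd (dpos b hb) h)).resolve_left fun hlt => hnd a ha b hb h1 hlt h
  -- a smallest nonabelian quotient
  have hab : commutator G ≠ ⊥ := by
    intro hab
    haveI : IsEmpty Γ.ConnectedComponent := ⟨fun c => by
      induction c using SimpleGraph.ConnectedComponent.ind with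
      | h v =>
        obtain ⟨hv, d, ⟨χ, rfl⟩, hd⟩ := v.2
        rw [PrimeNL.deg_one_of_abelian hab χ] at hd
        exact hv.ne_one (Nat.dvd_one.1 hd)⟩
    simp at htwo
  obtain ⟨K, ⟨hKn, hK⟩, hmax⟩ := Set.Finite.exists_maximal
    (s := {K : Subgroup G | K.Normal ∧ ¬ commutator G ≤ K}) (Set.toFinite _)
    ⟨⊥, inferInstance, fun e => hab (eq_bot_iff.2 e)⟩
  haveI := hKn
  haveI := Fintype.ofFinite (G ⧸ K)
  set π := QuotientGroup.mk' K with hπ
  have hπs : Function.Surjective π := QuotientGroup.mk'_surjective K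
  have hne : commutator (G ⧸ K) ≠ ⊥ := fun e => hK (by
    rw [commutator_def, Subgroup.commutator_le]
    intro a _ b _
    rw [← QuotientGroup.ker_mk' K, MonoidHom.mem_ker, map_commutatorElement, ← Subgroup.mem_bot, ← e]
    exact Subgroup.commutator_mem_commutator (Subgroup.mem_top _) (Subgroup.mem_top _))
  have hmin : ∀ M : Subgroup (G ⧸ K), M.Normal → M ≠ ⊥ → commutator (G ⧸ K) ≤ M := by
    intro M hM hMne
    have hle : K ≤ M.comap π := fun k hk => by
      rw [Subgroup.mem_comap, hπ, QuotientGroup.mk'_apply, (QuotientGroup.eq_one_iff k).2 hk]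
      exact M.one_mem
    have hM' : commutator G ≤ M.comap π := by
      by_contra hno
      refine hMne (eq_bot_iff.2 fun x hx => Subgroup.mem_bot.2 ?_)
      obtain ⟨g, rfl⟩ := hπs x
      exact (QuotientGroup.eq_one_iff g).2 (hmax ⟨hM.comap π, hno⟩ hle hx)
    rw [commutator_def, Subgroup.commutator_le]
    intro a _ b _
    obtain ⟨a', rfl⟩ := hπs a
    obtain ⟨b', rfl⟩ := hπs b
    rw [← map_commutatorElement]
    exact hM' (Subgroup.commutator_mem_commutator (Subgroup.mem_top a') (Subgroup.mem_top b'))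
  haveI : Group.IsSolvable (G ⧸ K) := solvable_of_surjective hπs
  obtain ⟨η, hη1⟩ := PrimeNL.exists_nonlinear hne
  set r := charDegree (η : G ⧸ K → ℂ) with hr
  have hrpos : 1 < r := by
    have := charDeg_pos η
    omega
  have hrG : r ∈ charDegrees G :=
    ⟨⟨fun g => (η : G ⧸ K → ℂ) (π g), IsIrr.comp_surjective _ hπs η.2⟩,
      by simp [charDegree, hr]⟩
  obtain ⟨s, hs, hsQ, hprimes⟩ := PrimeNL.two_primes_sylow hne hmin hη1 rfl
  haveI := Fact.mk hs
  obtain ⟨t₀, ht₀, ht₀r⟩ := Nat.exists_prime_and_dvd hη1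
  let v₀ : degreePrimes G := ⟨t₀, ht₀, r, hrG, ht₀r⟩
  have hshare : ∀ d ∈ charDegrees G, d ≠ 1 → ∃ t : ℕ, t.Prime ∧ t ∣ d ∧ (t ∣ r ∨ t = s) := by
    rintro _ ⟨χ, rfl⟩ hd1
    have hncop : ¬ Nat.Coprime (charDegree (χ : G → ℂ)) K.index := by
      intro hcop
      have h1 : r = charDegree (χ : G → ℂ) * r :=
        hanti r hrG _ (PrimeNL.mul_mem_of_coprime K χ η hcop) hrpos (dvd_mul_left _ _)
      exact hd1 ((mul_eq_right₀ (by omega)).1 h1.symm)
    obtain ⟨t, ht, htd, hti⟩ := Nat.Prime.not_coprime_iff_dvd.1 hncop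
    exact ⟨t, ht, htd, hprimes t ht (Subgroup.index_eq_card K ▸ hti)⟩
  have hsplit : ∀ v : degreePrimes G,
      Γ.Reachable v v₀ ∨ ∃ hsv : s ∈ degreePrimes G, Γ.Reachable v ⟨s, hsv⟩ := by
    intro v
    obtain ⟨hv, d, hd, hvd⟩ := v.2
    obtain ⟨t, ht, htd, h2⟩ := hshare d hd fun e => hv.ne_one (Nat.dvd_one.1 (e ▸ hvd))
    have htv : t ∈ degreePrimes G := ⟨ht, d, hd, htd⟩
    have h1 := near v ⟨t, htv⟩ d hd hvd htd
    rcases h2 with h2 | h2
    · exact Or.inl (h1.trans (near ⟨t, htv⟩ v₀ r hrG h2 ht₀r))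
    · subst h2
      exact Or.inr ⟨htv, h1⟩
  have hsdeg : s ∈ degreePrimes G := by
    by_contra hno
    exact notone v₀ fun w => (hsplit w).resolve_right fun ⟨hsv, _⟩ => hno hsv
  have hsep : ¬ Γ.Reachable ⟨s, hsdeg⟩ v₀ := fun hR => notone v₀ fun w =>
    (hsplit w).elim id fun ⟨_, h⟩ => h.trans hR
  have hscop : ∀ d ∈ charDegrees G, s ∣ d → d.Coprime r := fun d hd hsd =>
    Nat.coprime_of_dvd fun t ht htd htr => hsep
      ((near ⟨s, hsdeg⟩ ⟨t, ht, d, hd, htd⟩ d hd hsd htd).trans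
        (near ⟨t, ht, d, hd, htd⟩ v₀ r hrG htr ht₀r))
  have hsr : ¬ s ∣ r := fun h => hsep (near ⟨s, hsdeg⟩ v₀ r hrG h ht₀r)
  -- the Sylow subgroup of the quotient
  obtain ⟨S, hS⟩ := hsQ.exists_le_sylow
  haveI : (S : Subgroup (G ⧸ K)).Normal := PrimeNL.normal_of_commutator_le hS
  haveI := Fintype.ofFinite (S : Subgroup (G ⧸ K))
  obtain ⟨lam, hlam⟩ := ThreeDeg.exists_regular_linear S hS η hsr
  have hSprimes : ∀ t : ℕ, t.Prime → t ∣ (S : Subgroup (G ⧸ K)).index → t ∣ r := fun t ht htS =>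
    (hprimes t ht (htS.trans (Subgroup.index_dvd_card _))).resolve_right
      fun e => S.not_dvd_index (e ▸ htS)
  set T := inertia (S : Subgroup (G ⧸ K)) fun n : (S : Subgroup (G ⧸ K)) => (lam n : ℂ) with hT
  have hST : (S : Subgroup (G ⧸ K)) ≤ T := le_inertia _ (IsIrr.classFun (isIrr_linear lam))
  have hTS : T = (S : Subgroup (G ⧸ K)) := inertia_eq_sylow S hne hmin hsQ hS lam fun htop => by
    rw [hT, htop, Subgroup.index_top] at hlam
    exact hη1 (hr.trans hlam.symm)
  have hSidx : (S : Subgroup (G ⧸ K)).index = r := by rw [← hTS, hlam]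
  -- back in `G`
  set F : Subgroup G := (S : Subgroup (G ⧸ K)).comap π with hF
  haveI : F.Normal := (inferInstance : (S : Subgroup (G ⧸ K)).Normal).comap π
  haveI := Fintype.ofFinite F
  have hFidx : F.index = r := (Subgroup.index_comap_of_surjective _ hπs).trans hSidx
  have hFdiv : ∀ θ : IrrCharacter F, charDegree (θ : F → ℂ) ≠ 1 → s ∣ charDegree (θ : F → ℂ) := by
    intro θ hθ
    by_contra hno
    obtain ⟨χ, hχ⟩ := exists_regular_above K S lam hlam F hF θ hno
    have h1 := hanti r hrG _ ⟨χ, rfl⟩ hrpos ((dvd_mul_right _ _).trans hχ)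
    rw [← h1] at hχ
    exact hθ (Nat.dvd_one.1 (Nat.dvd_of_mul_dvd_mul_left (k := r) (by omega)
      (by rw [mul_one]; exact hχ)))
  set D : Set ℕ := {d | ∃ χ : IrrCharacter G, charDegree (χ : G → ℂ) = d ∧
    ¬ ∀ x ∈ ⁅F, F⁆, (χ : G → ℂ) x = (χ : G → ℂ) 1} with hD
  have hFG : ∀ x ∈ ⁅F, F⁆, x ∈ F := fun x hx => Subgroup.commutator_le_self F hx
  have hDdvd : ∀ d ∈ D, s ∣ d := by
    rintro _ ⟨χ, rfl, hχ⟩
    push Not at hχ
    obtain ⟨x, hx, hxne⟩ := hχ
    obtain ⟨θ, hθ, hθx⟩ := exists_nonprincipal_constituent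
      (χ := fun n : F => (χ : G → ℂ) n) (IsChar.res (irr_isChar χ) F) (g := ⟨x, hFG x hx⟩)
      (by simpa using hxne)
    refine (hFdiv θ fun h1 => hθx ?_).trans (DegreeRel.deg_dvd (show DegreeRel.Over χ θ from hθ))
    obtain ⟨μ, hμ⟩ := linearHom_of_isCharacter (irr_isChar θ) (by
      rw [charDeg_spec' θ, h1, Nat.cast_one])
    simp [hμ, MonoidHom.mem_ker.1 (Abelianization.commutator_subset_ker μ
      ((mem_commutator_iff_mem (N := F) ⟨x, hFG x hx⟩).2 hx))]
  have hDcd : ∀ d ∈ D, d ∈ charDegrees G := by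
    rintro _ ⟨χ, rfl, -⟩
    exact ⟨χ, rfl⟩
  have hout : ∀ χ : IrrCharacter G, (∀ x ∈ ⁅F, F⁆, (χ : G → ℂ) x = (χ : G → ℂ) 1) →
      charDegree (χ : G → ℂ) = 1 ∨ charDegree (χ : G → ℂ) = r := by
    intro χ hχ
    obtain ⟨θ, hθ⟩ := IsChar.exists_constituent' (IsChar.res (irr_isChar χ) F)
      (show (χ : G → ℂ) ((1 : F) : G) ≠ 0 from irr_one_ne_zero χ)
    have hθ1 : (θ : F → ℂ) 1 = 1 := by
      obtain ⟨ψ, hψ, hψθ⟩ := IsIrr.exists_factor_quotient θ.2 (commutator F) fun x hx =>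
        constituent_ker (IsChar.res (irr_isChar χ) F) θ.2 hθ
          (by rw [hχ _ ((mem_commutator_iff_mem (N := F) x).1 hx), Subgroup.coe_one])
      rw [← hψθ 1]
      exact IsIrr.one_of_comm (G := Abelianization F) (fun u v => mul_comm u v) hψ
    obtain ⟨e, he, hed⟩ := Ext.ratio_dvd_index' χ.2 θ.2 hθ
    have hdeg : charDegree (χ : G → ℂ) = e := PIto.charDeg_eq (by rw [he, hθ1, mul_one])
    rw [hFidx] at hed
    rcases eq_or_ne e 1 with h1 | h1
    · exact Or.inl (hdeg.trans h1)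
    · have he0 : 1 < e := by
        have := charDeg_pos χ
        omega
      exact Or.inr (hanti _ ⟨χ, rfl⟩ _ hrG (hdeg ▸ he0) (hdeg ▸ hed))
  -- the complement and the operator
  obtain ⟨l, hl, hlr⟩ := Nat.exists_prime_and_dvd hη1
  have hsl : s ≠ l := fun e => hsr (e ▸ hlr)
  obtain ⟨M, Q, a, hMn, hMle, hQle, hsup, hdisj, hMcop, hQp, hanorm, haord, haact⟩ :=
    exists_operator K S lam hTS hF hFdiv hl (hFidx.symm ▸ hlr)
  haveI := hMn
  haveI := Fintype.ofFinite M
  have hctx : Ctx F D s l M Q a :=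
    { normal := inferInstance
      hs := hs
      hl := hl
      hsl := hsl
      anti := fun d hd e he h => hanti d (hDcd d hd) e (hDcd e he)
        (lt_of_lt_of_le hs.one_lt (Nat.le_of_dvd (dpos d (hDcd d hd)) (hDdvd d hd))) h
      cop := fun d hd => by rw [hFidx]; exact hscop d (hDcd d hd) (hDdvd d hd)
      copl := fun d hd => (hscop d (hDcd d hd) (hDdvd d hd)).coprime_dvd_right hlr
      dvd := hDdvd
      dich := fun χ => or_iff_not_imp_left.2 fun h => ⟨χ, rfl, h⟩
      att := fun d hd => hd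
      mnormal := hMn
      mle := hMle
      qle := hQle
      sup := hsup
      disj := hdisj
      mcop := hMcop
      qp := hQp
      anorm := hanorm
      aord := haord
      aact := haact }
  have heq := hctx.eq_all
  -- the degrees
  obtain ⟨d₀, hd₀, hsd₀⟩ := hsdeg.2
  have hmem : ∀ d ∈ charDegrees G, d = 1 ∨ d = r ∨ d ∈ D := by
    rintro _ ⟨χ, rfl⟩
    by_cases h : ∀ x ∈ ⁅F, F⁆, (χ : G → ℂ) x = (χ : G → ℂ) 1
    · exact (hout χ h).imp_right Or.inl
    · exact Or.inr (Or.inr ⟨χ, rfl, h⟩)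
  have hd₀D : d₀ ∈ D := ((hmem d₀ hd₀).resolve_left fun e => hs.ne_one
    (Nat.dvd_one.1 (e ▸ hsd₀))).resolve_left fun e => hsr (e ▸ hsd₀)
  have hset : charDegrees G = {1, r, d₀} := by
    ext d
    simp only [Set.mem_insert_iff, Set.mem_singleton_iff]
    refine ⟨fun hd => (hmem d hd).imp_right (Or.imp_right fun h => heq d h d₀ hd₀D), ?_⟩
    rintro (rfl | rfl | rfl)
    exacts [⟨trivialIrr G, by simp [trivialIrr, charDegree]⟩, hrG, hd₀]
  rw [hset, Nat.card_coe_set_eq, Set.ncard_eq_three]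
  exact ⟨1, r, d₀, fun e => hη1 e.symm, fun e => hs.ne_one (Nat.dvd_one.1 (e ▸ hsd₀)),
    fun e => hsr (e ▸ hsd₀), rfl⟩

end Cfsg.Agent.Block.NDDTwo
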