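import Cfsg.Agent.Lib.Block.DegreeRel.Solvable
import Cfsg.Agent.Lib.Char.CliffordCorr
import Cfsg.Agent.Lib.Char.ExtendMain

/-!
# A normal subgroup with antichain degrees

`F` is normal, the degrees in `D` are prime to the index, and every character outside `D` is
trivial on `F'`.
-/

set_option autoImplicit false
set_option linter.style.haveILetI false
set_option linter.unusedSectionVars false

open Cfsg
open scoped ComplexConjugate commutatorElement

namespace Cfsg.Agent.Block.NDDTwo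

open Cfsg.Agent Cfsg.Agent.Char Cfsg.Agent.Block.DegreeRel

universe u

variable {G : Type u} [Group G] [Fintype G]

/-- The hypotheses. -/
structure Setting (F : Subgroup G) (D : Set ℕ) (s l : ℕ) : Prop where
  normal : F.Normal
  hs : s.Prime
  hl : l.Prime
  hsl : s ≠ l
  anti : ∀ d ∈ D, ∀ e ∈ D, d ∣ e → d = e
  cop : ∀ d ∈ D, d.Coprime F.index
  copl : ∀ d ∈ D, d.Coprime l
  dvd : ∀ d ∈ D, s ∣ d
  dich : ∀ χ : IrrCharacter G,
    (∀ x ∈ ⁅F, F⁆, (χ : G → ℂ) x = (χ : G → ℂ) 1) ∨ charDegree (χ : G → ℂ) ∈ D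

/-- A constituent of a constituent is a constituent. -/
theorem over_trans {J N : Type u} [Group J] [Fintype J] [Group N] [Fintype N] (f : N →* J)
    {χ ξ : J → ℂ} {θ : N → ℂ} (hχ : IsCharacter J χ) (hξ : IsIrrCharacter J ξ)
    (hθ : IsIrrCharacter N θ) (h1 : classInner χ ξ ≠ 0)
    (h2 : classInner (fun n => ξ (f n)) θ ≠ 0) : classInner (fun n => χ (f n)) θ ≠ 0 := by
  classical
  obtain ⟨a, ha, hd⟩ := IsChar.exists_decomp_inner hχ
  have hc : ∀ φ : IrrCharacter J, ∃ e : ℕ, classInner (fun n => (φ : J → ℂ) (f n)) θ = e :=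
    fun φ => IsChar.classInner_nat (IsChar.comp f (IsIrr.isCharacter φ.2)) (IsIrr.isCharacter hθ)
  choose e he using hc
  have h3 : (fun n => χ (f n)) = ∑ φ : IrrCharacter J,
      (a φ : ℂ) • fun n => (φ : J → ℂ) (f n) := by
    funext n
    have := congrFun hd (f n)
    rw [sum_irr_apply] at this
    rw [this]
    simp
  rw [h3, classInner_sum_left]
  simp only [classInner_smul_left, he]
  have h4 : 0 < ∑ φ : IrrCharacter J, a φ * e φ := by
    refine lt_of_lt_of_le (Nat.mul_pos ?_ ?_)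
      (Finset.single_le_sum (f := fun φ => a φ * e φ) (fun _ _ => Nat.zero_le _)
        (Finset.mem_univ (⟨ξ, hξ⟩ : IrrCharacter J)))
    · exact Nat.pos_of_ne_zero fun h => h1 (by rw [ha ⟨ξ, hξ⟩, h, Nat.cast_zero])
    · exact Nat.pos_of_ne_zero fun h => h2 (by
        have := he ⟨ξ, hξ⟩
        simp only at this
        rw [this, h, Nat.cast_zero])
  exact_mod_cast h4.ne'

/-- A character with irreducible restriction is not vanishing on any coset, so it separates its
twists. -/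
theorem twist_inj {J : Type u} [Group J] [Fintype J] (K : Subgroup J) [K.Normal] [Fintype K]
    {ξ : J → ℂ} (hξ : IsIrrCharacter J ξ) (hres : IsIrrCharacter K fun x : K => ξ x)
    {μ ν : J →* ℂˣ} (hμ : ∀ k ∈ K, μ k = 1) (hν : ∀ k ∈ K, ν k = 1)
    (h : ∀ g, (μ g : ℂ) * ξ g = (ν g : ℂ) * ξ g) : μ = ν := by
  classical
  set ζ : J → ℂ := ξ * fun g => conj (ξ g) with hζ
  obtain ⟨hA, -⟩ := gallagher (N := K) hξ hξ hres
    (by rw [classInner_self_irr hres]; exact one_ne_zero)
  have h1 : avgN K ζ = fun _ => 1 := by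
    refine eq_of_constituent_irr hA isIrr_one ?_
    have e1 : avgN K (fun _ : J => (1 : ℂ)) = fun _ => 1 := by
      funext g
      simp [avgN, Nat.card_pos.ne']
    have e2 : classInner ζ (fun _ => 1) = classInner ξ ξ := by
      simp [classInner, ζ]
    rw [classInner_avgN, e1, e2, classInner_self_irr hξ]
    exact one_ne_zero
  refine MonoidHom.ext fun g => ?_
  have h2 : avgN K ζ g = 1 := congrFun h1 g
  obtain ⟨n, hn⟩ : ∃ n : K, ξ ((n : J) * g) ≠ 0 := by
    by_contra hno
    push Not at hno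
    simp [avgN, ζ, hno] at h2
  have h3 := mul_right_cancel₀ hn (h ((n : J) * g))
  rw [map_mul, map_mul, hμ _ n.2, hν _ n.2, one_mul, one_mul] at h3
  exact Units.ext h3

namespace Setting

variable {F : Subgroup G} {D : Set ℕ} {s l : ℕ} {N : Subgroup G} [hN : N.Normal] [Fintype N]

theorem one_notMem (h : Setting F D s l) : 1 ∉ D := fun h1 =>
  h.hs.one_lt.ne' (Nat.dvd_one.1 (h.dvd 1 h1))

/-- Characters over a character that is not an invariant linear one. -/
theorem mem_of_over (h : Setting F D s l) (hNF : N ≤ F) {θ : IrrCharacter N}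
    (hθ : charDegree (θ : N → ℂ) ≠ 1 ∨ ¬ F ≤ inertia N (θ : N → ℂ)) {χ : IrrCharacter G}
    (hχ : Over χ θ) : charDegree (χ : G → ℂ) ∈ D := by
  classical
  refine (h.dich χ).resolve_left fun hk => ?_
  have hker : ∀ x : N, (x : G) ∈ ⁅F, F⁆ → (θ : N → ℂ) x = (θ : N → ℂ) 1 := fun x hx =>
    constituent_ker (IsChar.res (irr_isChar χ) N) θ.2 hχ
      (by rw [hk _ hx, Subgroup.coe_one])
  haveI := h.normal
  set K : Subgroup N := (⁅F, F⁆).subgroupOf N
  haveI : K.Normal := Subgroup.Normal.subgroupOf inferInstance _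
  obtain ⟨η, hη, hηθ⟩ := IsIrr.exists_factor_quotient θ.2 K fun x hx => hker x hx
  have h1 := IsIrr.one_of_comm (G := N ⧸ K) (fun u v => by
    induction u using QuotientGroup.induction_on with | _ u =>
    induction v using QuotientGroup.induction_on with | _ v =>
    rw [← QuotientGroup.mk_mul, ← QuotientGroup.mk_mul, QuotientGroup.eq, Subgroup.mem_subgroupOf,
      show ((u * v)⁻¹ * (v * u)) = ⁅v⁻¹, u⁻¹⁆ by rw [commutatorElement_def]; group,
      ← N.coe_subtype, map_commutatorElement]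
    exact Subgroup.commutator_mem_commutator (hNF (v⁻¹).2) (hNF (u⁻¹).2)) hη
  have hdeg : charDegree (θ : N → ℂ) = 1 := PIto.charDeg_eq (by
    rw [← hηθ 1, Nat.cast_one]
    exact h1)
  refine (hθ.resolve_left (not_not.2 hdeg)) fun f hf => (mem_inertia N).2 (funext fun n => ?_)
  rw [conjN_apply]
  have e : (⟨f * n * f⁻¹, hN.conj_mem n n.2 f⟩ : N) =
      ⟨⁅f, (n : G)⁆, by
        rw [commutatorElement_def]; exact N.mul_mem (hN.conj_mem n n.2 f) (N.inv_mem n.2)⟩ * n :=
    Subtype.ext (by simp [commutatorElement_def])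
  rw [e]
  exact char_mul_ker (irr_isChar θ) (hker _ (Subgroup.commutator_mem_commutator hf (hNF n.2))) n

/-- The orbit under `F` is the whole orbit, and its size divides a degree. -/
theorem orbit_data (h : Setting F D s l) (hNF : N ≤ F) {θ : IrrCharacter N}
    (hθ : charDegree (θ : N → ℂ) ≠ 1 ∨ ¬ F ≤ inertia N (θ : N → ℂ)) :
    F ⊔ inertia N (θ : N → ℂ) = ⊤ ∧
      (inertia N (θ : N → ℂ)).relIndex F = (inertia N (θ : N → ℂ)).index ∧
      (F.subgroupOf (inertia N (θ : N → ℂ))).index = F.index ∧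
      ∃ d ∈ D, charDegree (θ : N → ℂ) * (inertia N (θ : N → ℂ)).index ∣ d := by
  obtain ⟨χ, hχ⟩ := DegreeRel.exists_over (G := G) θ
  have hd := h.mem_of_over hNF hθ hχ
  obtain ⟨e, he⟩ := over_deg hχ
  haveI := h.normal
  set I := inertia N (θ : N → ℂ)
  have htop : F ⊔ I = ⊤ := Subgroup.index_eq_one.1 (Nat.eq_one_of_dvd_coprimes (h.cop _ hd)
    ((Subgroup.index_dvd_of_le le_sup_right).trans
      (he ▸ (dvd_mul_right _ _).trans (dvd_mul_left _ _)))
    (Subgroup.index_dvd_of_le le_sup_left))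
  have hF : (F.subgroupOf I).index = F.index := by
    show F.relIndex I = F.index
    rw [← Subgroup.relIndex_sup_right, sup_comm, htop, Subgroup.relIndex_top_right]
  have h2 : I.relIndex F * F.index = F.relIndex I * I.index := by
    rw [← Subgroup.inf_relIndex_right, Subgroup.relIndex_mul_index inf_le_right,
      ← Subgroup.inf_relIndex_right F I, Subgroup.relIndex_mul_index inf_le_right, inf_comm]
  have hF' : F.relIndex I = F.index := hF
  rw [hF', mul_comm F.index] at h2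
  exact ⟨htop, Nat.eq_of_mul_eq_mul_right (Nat.pos_of_ne_zero Subgroup.index_ne_zero_of_finite) h2,
    hF, _, hd, by rw [mul_comm]; exact he ▸ dvd_mul_left _ _⟩

set_option maxHeartbeats 400000 in
/-- An extension fixed by `F` is fixed by the whole inertia group. -/
theorem above (h : Setting F D s l) (hNF : N ≤ F) {θ : IrrCharacter N}
    (hθ : charDegree (θ : N → ℂ) ≠ 1 ∨ ¬ F ≤ inertia N (θ : N → ℂ))
    {I : Subgroup G} (hI : I = inertia N (θ : N → ℂ)) [Fintype I] (J : Subgroup I) [J.Normal]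
    [Fintype J] (f : N →* J) (hf : ∀ n : N, (((f n : I)) : G) = n)
    {ξ : J → ℂ} (hξ : IsIrrCharacter J ξ) (hres : classInner (fun n => ξ (f n)) (θ : N → ℂ) ≠ 0)
    (hfix : F.subgroupOf I ≤ inertia J ξ) :
    inertia J ξ = ⊤ ∧ (J = F.subgroupOf I →
      ∃ d ∈ D, (d : ℂ) = ξ 1 * I.index) := by
  classical
  obtain ⟨-, -, hFI, -⟩ := h.orbit_data hNF hθ
  rw [← hI] at hFI
  have hNI : N ≤ I := hI ▸ le_inertia N (IsIrr.classFun θ.2)
  obtain ⟨ψ, hψ⟩ := DegreeRel.exists_over (G := I) (⟨ξ, hξ⟩ : IrrCharacter J)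
  have hψN : classInner (fun n : N => (ψ : I → ℂ) ⟨(n : G), hNI n.2⟩) (θ : N → ℂ) ≠ 0 := by
    have := over_trans f (IsChar.res (irr_isChar ψ) J) hξ θ.2 hψ hres
    convert this using 3 with n
    exact congrArg (ψ : I → ℂ) (Subtype.ext (hf n).symm)
  obtain ⟨hirr, -⟩ := Corr.indFun_irr N θ.2 hI hNI ψ.2 hψN
  obtain ⟨χ, hχe⟩ : ∃ χ : IrrCharacter G, (χ : G → ℂ) = indFun I (ψ : I → ℂ) := ⟨⟨_, hirr⟩, rfl⟩
  have hχI : classInner (fun x : I => (χ : G → ℂ) x) (ψ : I → ℂ) ≠ 0 := by
    have h1 := classInner_self_irr χ.2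
    conv_lhs at h1 => arg 1; rw [hχe]
    rw [classInner_indFun I (ψ : I → ℂ) (IsIrr.classFun χ.2)] at h1
    rw [← classInner_conj_symm, Ne, map_eq_zero, h1]
    exact one_ne_zero
  have hχθ : Over χ θ := by
    have h1 := over_trans (χ := fun x : I => (χ : G → ℂ) x) (ξ := (ψ : I → ℂ))
      (θ := (θ : N → ℂ)) (Subgroup.inclusion hNI) (IsChar.res (irr_isChar χ) I) ψ.2 θ.2 hχI hψN
    exact h1
  have hd := h.mem_of_over hNF hθ hχθ
  have hdeg : charDegree (χ : G → ℂ) = I.index * charDegree (ψ : I → ℂ) := PIto.charDeg_eq (by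
    rw [hχe, indFun_one_eq, charDeg_spec' ψ, Nat.cast_mul])
  have hcop : (charDegree (ψ : I → ℂ)).Coprime F.index :=
    (h.cop _ hd).coprime_dvd_left (hdeg ▸ dvd_mul_left _ _)
  have e0 : ((⟨ξ, hξ⟩ : IrrCharacter J) : J → ℂ) = ξ := rfl
  have hi1 := orbit_dvd hψ
  rw [e0] at hi1
  have hi2 : (inertia J ξ).index ∣ F.index := by
    have h1 := Subgroup.index_dvd_of_le hfix
    rw [hFI] at h1
    exact h1
  refine ⟨Subgroup.index_eq_one.1 (Nat.eq_one_of_dvd_coprimes hcop hi1 hi2), fun hJ => ?_⟩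
  obtain ⟨e, he, hed⟩ := Ext.ratio_dvd_index' ψ.2 hξ hψ
  obtain ⟨c, -, hc⟩ := IsIrr.one_eq_pos hξ
  have he' : charDegree (ψ : I → ℂ) = e * c := PIto.charDeg_eq (by rw [he, hc, Nat.cast_mul])
  have he1 : e = 1 := Nat.eq_one_of_dvd_coprimes hcop (he' ▸ dvd_mul_right _ _)
    (by rw [hJ, hFI] at hed; exact hed)
  exact ⟨_, hd, by rw [hdeg, he', he1, one_mul, Nat.cast_mul, hc, mul_comm]⟩

/-- Twisting an extension: elements of the inertia group centralise `J` modulo `N`. -/
theorem comm_mem (h : Setting F D s l) (hNF : N ≤ F) {θ : IrrCharacter N}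
    (hθ : charDegree (θ : N → ℂ) ≠ 1 ∨ ¬ F ≤ inertia N (θ : N → ℂ))
    {I : Subgroup G} (hI : I = inertia N (θ : N → ℂ)) [Fintype I] (J : Subgroup I) [J.Normal]
    [Fintype J] (f : N →* J) (hf : ∀ n : N, (((f n : I)) : G) = n)
    {ξ : J → ℂ} (hξ : IsIrrCharacter J ξ) (hres : ∀ n, ξ (f n) = (θ : N → ℂ) n)
    (hfix : ∀ ζ : J → ℂ, IsIrrCharacter J ζ → (∀ n, ζ (f n) = (θ : N → ℂ) n) →
      F.subgroupOf I ≤ inertia J ζ)
    (hab : ∀ u v : J, (((⁅u, v⁆ : J) : I) : G) ∈ N)
    (g : I) (u : J) :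
    (g : G) * ((u : I) : G) * (g : G)⁻¹ *
      ((u : I) : G)⁻¹ ∈ N := by
  classical
  set K : Subgroup J := (N.subgroupOf I).subgroupOf J with hK
  haveI : (N.subgroupOf I).Normal := Subgroup.Normal.subgroupOf hN _
  haveI : K.Normal := Subgroup.Normal.subgroupOf inferInstance _
  haveI : Fintype K := Fintype.ofFinite _
  have hmem : ∀ x : J, x ∈ K ↔ ((x : I) : G) ∈ N := fun x => Iff.rfl
  have hfK : ∀ n, f n ∈ K := fun n => (hmem _).2 (by rw [hf]; exact n.2)
  set e : N →* K := f.codRestrict K hfK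
  have he : Function.Bijective e := ⟨fun a b hab' => Subtype.ext (by
    rw [← hf a, ← hf b]
    exact congrArg (fun x : K => (((x : J) : I) : G)) hab'), fun x =>
    ⟨⟨_, (hmem _).1 x.2⟩, Subtype.ext (Subtype.ext (Subtype.ext (hf _)))⟩⟩
  have hresK : IsIrrCharacter K fun x : K => ξ x := by
    have h1 := IsIrr.comp_mulEquiv (MulEquiv.ofBijective e he).symm θ.2
    convert h1 using 1
    funext x
    obtain ⟨n, rfl⟩ := he.2 x
    show ξ (f n) = _
    rw [hres]
    exact congrArg (θ : N → ℂ) ((MulEquiv.ofBijective e he).symm_apply_apply n).symm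
  suffices hμ : ∀ μ : J →* ℂˣ, (∀ k ∈ K, μ k = 1) → μ (conjEquivN J g u) = μ u by
    have hQ : ∀ a b : J ⧸ K, a * b = b * a := fun a b => by
      induction a using QuotientGroup.induction_on with | _ a =>
      induction b using QuotientGroup.induction_on with | _ b =>
      rw [← QuotientGroup.mk_mul, ← QuotientGroup.mk_mul, QuotientGroup.eq,
        show (a * b)⁻¹ * (b * a) = ⁅b⁻¹, a⁻¹⁆ by rw [commutatorElement_def]; group]
      exact hab _ _
    have h1 : ((conjEquivN J g u * u⁻¹ : J) : J ⧸ K) = 1 :=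
      eq_one_of_forall_linear hQ fun μ => by
        have := hμ (μ.comp (QuotientGroup.mk' K)) (fun k hk => by
          rw [MonoidHom.comp_apply, QuotientGroup.mk'_apply, (QuotientGroup.eq_one_iff k).2 hk,
            map_one])
        simp only [MonoidHom.comp_apply, QuotientGroup.mk'_apply] at this
        rw [QuotientGroup.mk_mul, QuotientGroup.mk_inv, map_mul, map_inv, this, mul_inv_cancel]
    have h2 := (hmem _).1 ((QuotientGroup.eq_one_iff _).1 h1)
    simpa [conjEquivN_apply] using h2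
  intro μ hμ
  have hinv : ∀ ν : J →* ℂˣ, (∀ k ∈ K, ν k = 1) → ∀ x : J,
      (ν (conjEquivN J g x) : ℂ) * ξ (conjEquivN J g x) = (ν x : ℂ) * ξ x := by
    intro ν hν x
    have hζ : IsIrrCharacter J fun y => (ν y : ℂ) * ξ y := IsIrr.mul_linear hξ ν
    have hres' : ∀ n, (ν (f n) : ℂ) * ξ (f n) = (θ : N → ℂ) n := fun n => by
      rw [hν _ (hfK n), Units.val_one, one_mul, hres]
    have h1 := (h.above hNF hθ hI J f hf hζ (by
      rw [show (fun n => (ν (f n) : ℂ) * ξ (f n)) = (θ : N → ℂ) from funext hres',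
        classInner_self_irr θ.2]
      exact one_ne_zero) (hfix _ hζ hres')).1
    have h2 := congrFun ((mem_inertia J).1 (h1 ▸ Subgroup.mem_top g)) x
    rw [conjN_eq_comp] at h2
    exact h2
  refine DFunLike.congr_fun (twist_inj K hξ hresK
    (μ := μ.comp (conjEquivN J g).toMonoidHom) (ν := μ) ?_ hμ fun x => ?_) u
  · intro k hk
    refine hμ _ ((hmem _).2 ?_)
    have : (((conjEquivN J g k : J) : I) : G) = g * ((k : I) : G) * (g : G)⁻¹ := by
      simp [conjEquivN_apply]
    rw [MulEquiv.coe_toMonoidHom, this]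
    exact hN.conj_mem _ ((hmem _).1 hk) _
  · have h1 := hinv μ hμ x
    have h2 := hinv 1 (fun k _ => rfl) x
    simp only [MonoidHom.one_apply, Units.val_one, one_mul] at h2
    rw [h2] at h1
    exact h1

end Setting

end Cfsg.Agent.Block.NDDTwo
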